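import Mathlib.RingTheory.Ideal.KrullsHeightTheorem
import Mathlib.RingTheory.Jacobson.Ring
import Mathlib.RingTheory.Polynomial.Basic
import Mathlib.FieldTheory.IsAlgClosed.Basic
import Mathlib.LinearAlgebra.Dimension.Finrank
import Mathlib.LinearAlgebra.FiniteDimensional.Basic
import Mathlib.Algebra.MvPolynomial.CommRing
import Mathlib.Algebra.MvPolynomial.NoZeroDivisors

/-!
# Hopf's lemma on bilinear maps without zero divisors

`hopf`: over an algebraically closed field, a bilinear map `B : V × W → U` of nonzero finite-dimensional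
vector spaces with `B v w ≠ 0` for `v, w ≠ 0` satisfies `dim V + dim W ≤ dim U + 1`.

Proof: the coordinate ring `S = k[x_i y_j]` of the cone of pure tensors has a chain of primes of length
`dim V + dim W - 1` ending at the origin; if `B` has no zero divisors, the origin is minimal over the `dim U` bilinear
forms, and Krull's height theorem applies.
-/

set_option autoImplicit false
universe u

namespace K334.Hopf

open MvPolynomial

section Segre

variable (k : Type u) [Field k] (m n : ℕ)

/-- the map `z_{ij} ↦ x_i y_j` -/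
noncomputable def seg : MvPolynomial (Fin m × Fin n) k →ₐ[k] MvPolynomial (Fin m ⊕ Fin n) k :=
  aeval fun p => X (Sum.inl p.1) * X (Sum.inr p.2)

/-- the coordinate ring of the cone of pure tensors -/
noncomputable abbrev S : Subalgebra k (MvPolynomial (Fin m ⊕ Fin n) k) := (seg k m n).range

instance : IsNoetherianRing (S k m n) :=
  isNoetherianRing_of_surjective _ _ (seg k m n).rangeRestrict.toRingHom (seg k m n).rangeRestrict_surjective

instance : IsJacobsonRing (S k m n) :=
  isJacobsonRing_of_surjective ⟨(seg k m n).rangeRestrict.toRingHom, (seg k m n).rangeRestrict_surjective⟩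

instance : Algebra.FiniteType k (S k m n) :=
  Algebra.FiniteType.of_surjective (seg k m n).rangeRestrict (seg k m n).rangeRestrict_surjective

/-- set the variables in `T` to zero -/
noncomputable def kill (T : Set (Fin m ⊕ Fin n)) :
    MvPolynomial (Fin m ⊕ Fin n) k →ₐ[k] MvPolynomial (Fin m ⊕ Fin n) k := by
  classical exact aeval fun v => if v ∈ T then 0 else X v

variable {m n}

theorem kill_X_mem {T : Set (Fin m ⊕ Fin n)} {v : Fin m ⊕ Fin n} (h : v ∈ T) : kill k m n T (X v) = 0 := by
  classical
  rw [kill, aeval_X, if_pos h]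

theorem kill_X_notMem {T : Set (Fin m ⊕ Fin n)} {v : Fin m ⊕ Fin n} (h : v ∉ T) : kill k m n T (X v) = X v := by
  classical
  rw [kill, aeval_X, if_neg h]

theorem kill_kill {T T' : Set (Fin m ⊕ Fin n)} (h : T ⊆ T') (a : MvPolynomial (Fin m ⊕ Fin n) k) :
    kill k m n T' (kill k m n T a) = kill k m n T' a := by
  have : (kill k m n T').comp (kill k m n T) = kill k m n T' := by
    apply MvPolynomial.algHom_ext
    intro v
    rw [AlgHom.comp_apply]
    by_cases hv : v ∈ T
    · rw [kill_X_mem k hv, map_zero, kill_X_mem k (h hv)]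
    · rw [kill_X_notMem k hv]
  exact congrArg (fun g => g a) this

/-- The prime of `S` of functions vanishing when the variables in `T` are zero. -/
noncomputable def pp (T : Set (Fin m ⊕ Fin n)) : Ideal (S k m n) :=
  RingHom.ker ((kill k m n T).comp (S k m n).val).toRingHom

instance (T : Set (Fin m ⊕ Fin n)) : (pp k T).IsPrime := RingHom.ker_isPrime _

theorem mem_pp {T : Set (Fin m ⊕ Fin n)} {s : S k m n} : s ∈ pp k T ↔ kill k m n T s = 0 := Iff.rfl

theorem pp_mono {T T' : Set (Fin m ⊕ Fin n)} (h : T ⊆ T') : pp k T ≤ pp k T' := by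
  intro s hs
  rw [mem_pp] at hs ⊢
  rw [← kill_kill k h, hs, map_zero]

/-- the element `x_i y_j` -/
noncomputable def gen (i : Fin m) (j : Fin n) : S k m n := (seg k m n).rangeRestrict (X (i, j))

theorem coe_gen (i : Fin m) (j : Fin n) :
    ((gen k i j : S k m n) : MvPolynomial (Fin m ⊕ Fin n) k) = X (Sum.inl i) * X (Sum.inr j) := by
  change seg k m n (X (i, j)) = _
  rw [seg, aeval_X]

theorem gen_mem_pp {T : Set (Fin m ⊕ Fin n)} {i : Fin m} {j : Fin n} :
    gen k i j ∈ pp k T ↔ Sum.inl i ∈ T ∨ Sum.inr j ∈ T := by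
  rw [mem_pp, coe_gen, map_mul, mul_eq_zero]
  refine or_congr ?_ ?_
  · by_cases h : (Sum.inl i : Fin m ⊕ Fin n) ∈ T
    · simp [kill_X_mem k h, h]
    · simp only [kill_X_notMem k h, h, iff_false]; exact X_ne_zero _
  · by_cases h : (Sum.inr j : Fin m ⊕ Fin n) ∈ T
    · simp [kill_X_mem k h, h]
    · simp only [kill_X_notMem k h, h, iff_false]; exact X_ne_zero _

theorem height_step {T T' : Set (Fin m ⊕ Fin n)} (h : T ⊆ T') {i : Fin m} {j : Fin n}
    (hi : Sum.inl i ∉ T) (hj : Sum.inr j ∉ T) (h' : Sum.inl i ∈ T' ∨ Sum.inr j ∈ T') :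
    (pp k T).height + 1 ≤ (pp k T').height := by
  refine Ideal.height_add_one_le_of_lt_of_isPrime (lt_of_le_of_ne (pp_mono k h) fun he => ?_)
  have h1 : gen k i j ∈ pp k T' := (gen_mem_pp k).mpr h'
  rw [← he, gen_mem_pp] at h1
  rcases h1 with h1 | h1
  · exact hi h1
  · exact hj h1

theorem height_one (hn : 0 < n) (t : ℕ) (ht : t < m) :
    (t : ℕ∞) ≤ (pp k {v : Fin m ⊕ Fin n | ∃ i : Fin m, v = Sum.inl i ∧ (i : ℕ) < t}).height := by
  induction t with
  | zero => simp
  | succ t ih =>
    have h1 := ih (by omega)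
    have h2 := height_step k
      (T := {v : Fin m ⊕ Fin n | ∃ i : Fin m, v = Sum.inl i ∧ (i : ℕ) < t})
      (T' := {v : Fin m ⊕ Fin n | ∃ i : Fin m, v = Sum.inl i ∧ (i : ℕ) < t + 1})
      (by
        rintro v ⟨i, rfl, hi⟩
        exact ⟨i, rfl, by omega⟩) (i := ⟨t, by omega⟩) (j := ⟨0, hn⟩)
      (by
        rintro ⟨i, hi, hlt⟩
        have h3 := Sum.inl.inj hi
        rw [← h3] at hlt
        exact lt_irrefl _ hlt)
      (by
        rintro ⟨i, hi, -⟩
        exact absurd hi (by simp))
      (Or.inl ⟨⟨t, by omega⟩, rfl, Nat.lt_succ_self t⟩)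
    push_cast
    exact (add_le_add_left h1 1).trans h2

theorem height_two (hm : 0 < m) (hn : 0 < n) (s : ℕ) (hs : s ≤ n) :
    ((m - 1 : ℕ) : ℕ∞) + s ≤ (pp k {v : Fin m ⊕ Fin n | (∃ i : Fin m, v = Sum.inl i ∧ (i : ℕ) < m - 1) ∨
      ∃ j : Fin n, v = Sum.inr j ∧ (j : ℕ) < s}).height := by
  induction s with
  | zero =>
    have h0 : m - 1 < m := by omega
    have h1 := height_one k hn (m - 1) h0
    rw [Nat.cast_zero, add_zero]
    refine h1.trans (Ideal.height_mono (pp_mono k ?_))
    rintro v ⟨i, rfl, hi⟩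
    exact Or.inl ⟨i, rfl, hi⟩
  | succ s ih =>
    have h1 := ih (by omega)
    have h2 := height_step k
      (T := {v : Fin m ⊕ Fin n | (∃ i : Fin m, v = Sum.inl i ∧ (i : ℕ) < m - 1) ∨
        ∃ j : Fin n, v = Sum.inr j ∧ (j : ℕ) < s})
      (T' := {v : Fin m ⊕ Fin n | (∃ i : Fin m, v = Sum.inl i ∧ (i : ℕ) < m - 1) ∨
        ∃ j : Fin n, v = Sum.inr j ∧ (j : ℕ) < s + 1})
      (by
        rintro v (h | ⟨j, rfl, hj⟩)
        · exact Or.inl h
        · exact Or.inr ⟨j, rfl, by omega⟩) (i := ⟨m - 1, by omega⟩) (j := ⟨s, by omega⟩)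
      (by
        rintro (⟨i, hi, hlt⟩ | ⟨j, hj, -⟩)
        · have h3 := Sum.inl.inj hi
          rw [← h3] at hlt
          exact lt_irrefl _ hlt
        · exact absurd hj (by simp))
      (by
        rintro (⟨i, hi, -⟩ | ⟨j, hj, hlt⟩)
        · exact absurd hi (by simp)
        · have h3 := Sum.inr.inj hj
          rw [← h3] at hlt
          exact lt_irrefl _ hlt)
      (Or.inr (Or.inr ⟨⟨s, by omega⟩, rfl, Nat.lt_succ_self s⟩))
    push_cast
    rw [← add_assoc]
    exact (add_le_add_left h1 1).trans h2

/-- every element of `S` is a constant plus an element of the ideal of the `x_i y_j` -/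
theorem exists_const (s : S k m n) :
    ∃ c : k, s - algebraMap k (S k m n) c ∈
      Ideal.span (Set.range fun p : Fin m × Fin n => gen k p.1 p.2) := by
  obtain ⟨a, rfl⟩ := (seg k m n).rangeRestrict_surjective s
  induction a using MvPolynomial.induction_on with
  | C c =>
    refine ⟨c, ?_⟩
    have : (seg k m n).rangeRestrict (C c) = algebraMap k (S k m n) c :=
      (seg k m n).rangeRestrict.commutes c
    rw [this, sub_self]
    exact zero_mem _
  | add a b ha hb =>
    obtain ⟨c, hc⟩ := ha
    obtain ⟨d, hd⟩ := hb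
    refine ⟨c + d, ?_⟩
    have := add_mem hc hd
    convert this using 1
    rw [map_add, map_add]
    ring
  | mul_X a p ha =>
    refine ⟨0, ?_⟩
    rw [map_zero, sub_zero, map_mul]
    exact Ideal.mul_mem_left _ _ (Ideal.subset_span ⟨p, rfl⟩)

variable [IsAlgClosed k]

/-- A maximal ideal is the kernel of a point. -/
theorem exists_point {R : Type*} [CommRing R] [Algebra k R] [Algebra.FiniteType k R] (M : Ideal R) [hM : M.IsMaximal] :
    ∃ φ : R →ₐ[k] k, ∀ s, φ s = 0 ↔ s ∈ M := by
  let _ : Field (R ⧸ M) := Ideal.Quotient.field M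
  have h1 : Module.Finite k (R ⧸ M) := finite_of_finite_type_of_isJacobsonRing k (R ⧸ M)
  have h2 : Algebra.IsIntegral k (R ⧸ M) := Algebra.IsIntegral.of_finite k _
  have h3 := IsAlgClosed.algebraMap_bijective_of_isIntegral (k := k) (K := R ⧸ M)
  let e : k ≃ₐ[k] (R ⧸ M) := AlgEquiv.ofBijective (Algebra.ofId k (R ⧸ M)) h3
  refine ⟨(e.symm : (R ⧸ M) →ₐ[k] k).comp (Ideal.Quotient.mkₐ k M), fun s => ?_⟩
  rw [AlgHom.comp_apply]
  change e.symm (Ideal.Quotient.mk M s) = 0 ↔ _
  rw [EmbeddingLike.map_eq_zero_iff, Ideal.Quotient.eq_zero_iff_mem]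

/-- `r < m + n - 1` bilinear equations have a common solution `(v, w)` with `v, w ≠ 0`. -/
theorem exists_pure (hm : 0 < m) (hn : 0 < n) (r : ℕ) (hr : r + 1 < m + n) (c : Fin r → Fin m → Fin n → k) :
    ∃ (v : Fin m → k) (w : Fin n → k), v ≠ 0 ∧ w ≠ 0 ∧ ∀ l, ∑ i, ∑ j, c l i j * (v i * w j) = 0 := by
  classical
  by_contra hcon
  let β : Fin r → S k m n := fun l => ∑ i, ∑ j, c l i j • gen k i j
  let T : Set (Fin m ⊕ Fin n) := {v : Fin m ⊕ Fin n | (∃ i : Fin m, v = Sum.inl i ∧ (i : ℕ) < m - 1) ∨
      ∃ j : Fin n, v = Sum.inr j ∧ (j : ℕ) < n}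
  have hT : ∀ i j, gen k i j ∈ pp k T := fun i j =>
    (gen_mem_pp k).mpr (Or.inr (Or.inr ⟨j, rfl, j.2⟩))
  have hmin : pp k T ∈ (Ideal.span (Set.range β)).minimalPrimes := by
    refine ⟨⟨inferInstance, ?_⟩, ?_⟩
    · rw [Ideal.span_le]
      rintro _ ⟨l, rfl⟩
      refine Ideal.sum_mem _ fun i _ => Ideal.sum_mem _ fun j _ => ?_
      rw [Algebra.smul_def]
      exact Ideal.mul_mem_left _ _ (hT i j)
    · rintro q ⟨hq, hIq⟩ -
      -- all generators lie in `q`
      have hgen : ∀ a b, gen k a b ∈ q := by
        intro a b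
        by_contra hab
        have hjac : q.jacobson = q := IsJacobsonRing.out inferInstance hq.isRadical
        have h1 : gen k a b ∉ q.jacobson := by rwa [hjac]
        rw [Ideal.jacobson, Ideal.mem_sInf] at h1
        push Not at h1
        obtain ⟨M, ⟨hqM, hM⟩, habM⟩ := h1
        obtain ⟨φ, hφ⟩ := exists_point k M
        have hc0 : φ (gen k a b) ≠ 0 := fun h => habM ((hφ _).mp h)
        apply hcon
        refine ⟨fun i => φ (gen k i b), fun j => φ (gen k a j) / φ (gen k a b), ?_, ?_, fun l => ?_⟩
        · intro h; exact hc0 (congrFun h a)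
        · intro h
          have := congrFun h b
          simp only [Pi.zero_apply, div_self hc0] at this
          exact one_ne_zero this
        · have h2 : ∀ i j, φ (gen k i b) * (φ (gen k a j) / φ (gen k a b)) = φ (gen k i j) := by
            intro i j
            rw [mul_div_assoc', div_eq_iff hc0, ← map_mul, ← map_mul]
            congr 1
            apply Subtype.ext
            rw [MulMemClass.coe_mul, MulMemClass.coe_mul, coe_gen, coe_gen, coe_gen, coe_gen]
            ring
          simp only [h2]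
          have h3 : φ (β l) = 0 := (hφ _).mpr (hqM (hIq (Ideal.subset_span ⟨l, rfl⟩)))
          rw [← h3, map_sum]
          refine Finset.sum_congr rfl fun i _ => ?_
          rw [map_sum]
          refine Finset.sum_congr rfl fun j _ => ?_
          rw [map_smul, smul_eq_mul]
      have hspan : Ideal.span (Set.range fun p : Fin m × Fin n => gen k p.1 p.2) ≤ q := by
        rw [Ideal.span_le]
        rintro _ ⟨p, rfl⟩
        exact hgen _ _
      have hspanT : Ideal.span (Set.range fun p : Fin m × Fin n => gen k p.1 p.2) ≤ pp k T := by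
        rw [Ideal.span_le]
        rintro _ ⟨p, rfl⟩
        exact hT _ _
      intro s hs
      obtain ⟨d, hd⟩ := exists_const k s
      have h4 : algebraMap k (S k m n) d ∈ pp k T := by
        have := sub_mem hs (hspanT hd)
        rwa [sub_sub_cancel] at this
      have h5 : d = 0 := by
        by_contra hd0
        refine (inferInstance : (pp k T).IsPrime).ne_top ?_
        rw [Ideal.eq_top_iff_one]
        have := Ideal.mul_mem_left _ (algebraMap k (S k m n) d⁻¹) h4
        rwa [← map_mul, inv_mul_cancel₀ hd0, map_one] at this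
      rw [h5, map_zero, sub_zero] at hd
      exact hspan hd
  have h1 := Ideal.height_le_card_of_mem_minimalPrimes_span (Set.finite_range β) hmin
  have h2 : (Set.range β).ncard ≤ r := by
    have := Set.ncard_image_le (Set.finite_univ (α := Fin r)) (f := β)
    rwa [Set.image_univ, Set.ncard_univ, Nat.card_eq_fintype_card, Fintype.card_fin] at this
  have h3 := height_two k hm hn n le_rfl
  have h4 : ((m - 1 : ℕ) : ℕ∞) + n ≤ r := h3.trans (h1.trans (by exact_mod_cast h2))
  have h5 : m - 1 + n ≤ r := by exact_mod_cast h4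
  omega

end Segre

/-- **Hopf's lemma.** A bilinear map without zero divisors between nonzero finite-dimensional vector spaces over an
algebraically closed field satisfies `dim V + dim W ≤ dim U + 1`. -/
theorem hopf {k V W U : Type*} [Field k] [IsAlgClosed k] [AddCommGroup V] [Module k V] [AddCommGroup W] [Module k W]
    [AddCommGroup U] [Module k U] [Module.Finite k V] [Module.Finite k W] [Module.Finite k U]
    [Nontrivial V] [Nontrivial W] (B : V →ₗ[k] W →ₗ[k] U) (hB : ∀ v w, B v w = 0 → v = 0 ∨ w = 0) :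
    Module.finrank k V + Module.finrank k W ≤ Module.finrank k U + 1 := by
  by_contra hcon
  push Not at hcon
  let bV := Module.finBasis k V
  let bW := Module.finBasis k W
  let bU := Module.finBasis k U
  obtain ⟨v, w, hv, hw, h⟩ := exists_pure k Module.finrank_pos Module.finrank_pos _ hcon
    (fun l i j => bU.repr (B (bV i) (bW j)) l)
  have h1 : B (∑ i, v i • bV i) (∑ j, w j • bW j) = 0 := by
    apply bU.repr.injective
    rw [map_zero]
    ext l
    rw [Finsupp.zero_apply, ← h l]
    simp only [map_sum, LinearMap.sum_apply, map_smul, LinearMap.smul_apply, Finsupp.coe_finsetSum,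
      Finset.sum_apply, Finsupp.smul_apply, smul_eq_mul]
    simp only [Finset.mul_sum]
    rw [Finset.sum_comm]
    refine Finset.sum_congr rfl fun i _ => Finset.sum_congr rfl fun j _ => ?_
    ring
  rcases hB _ _ h1 with h2 | h2
  · apply hv
    funext i
    have := congrArg (fun x => bV.repr x i) h2
    simpa [Finsupp.single_apply] using this
  · apply hw
    funext j
    have := congrArg (fun x => bW.repr x j) h2
    simpa [Finsupp.single_apply] using this

end K334.Hopf
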