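import Groth.Agent.CurvesB.CurveRR
import Groth.Agent.CurvesB.InvEmb
import Groth.Agent.VarietyA.CurveFin
import Groth.Agent.Curves.K334.Hopf

/-!
# Clifford's theorem, without duality

`X` integral and proper of dimension (at most) one over an algebraically closed field `k`.

* `finrank_add_le`: `h⁰(F) + h¹(F) ≤ g + 1` for `F` locally embedded in `O_X` (e.g. invertible) with `h⁰(F), h¹(F) ≠ 0`;
* `clifford`: `2 (h⁰(L) - 1) ≤ deg L` for `L` invertible with `h⁰(L), h¹(L) ≠ 0`.

The pairing `H⁰(F) × H¹(F)^* → H¹(O)^*` has no zero divisors, since a nonzero section `O → F` is surjective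
on `H¹`; conclude by Hopf's lemma.
-/

set_option autoImplicit false
universe u
open CategoryTheory CategoryTheory.Limits AlgebraicGeometry Opposite TopologicalSpace
open Groth.Agent.CohqB.HSeqMod Groth.Agent.CurvesB.HZero
open Groth.Agent.CurvesB.Pairing Groth.Agent.CurvesB.RankOne Groth.Agent.CurvesB.CurveRR

namespace K334.Clifford

variable (k : Type u) [Field k] {X : Scheme.{u}} [X.Over (Spec (CommRingCat.of k))]

/-- The pairing `H⁰(F) × H^n(F)^* → H^n(O)^*`. -/
noncomputable def dualPairing (F : X.Modules) (n : ℕ) :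
    Coh.HH X F 0 →ₗ[k] Module.Dual k (Coh.HH X F n) →ₗ[k] Module.Dual k (Coh.HH X (Coh.structureModule X) n) :=
  LinearMap.mk₂ k (fun x φ => φ ∘ₗ pairing k F n x)
    (fun x y φ => by rw [map_add, LinearMap.comp_add])
    (fun c x φ => by rw [map_smul, LinearMap.comp_smul])
    (fun x φ ψ => by rw [LinearMap.add_comp])
    (fun c x φ => by rw [LinearMap.smul_comp])

theorem dualPairing_apply (F : X.Modules) (n : ℕ) (x : Coh.HH X F 0) (φ : Module.Dual k (Coh.HH X F n)) :
    dualPairing k F n x φ = φ ∘ₗ pairing k F n x := rfl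

variable [IsAlgClosed k]

theorem finrank_add_le' (F : X.Modules) (n : ℕ)
    [Module.Finite k (Coh.HH X F 0)] [Module.Finite k (Coh.HH X F n)]
    [Module.Finite k (Coh.HH X (Coh.structureModule X) n)]
    [Nontrivial (Coh.HH X F 0)] [Nontrivial (Coh.HH X F n)]
    (hs : ∀ s : Coh.structureModule X ⟶ F, s ≠ 0 → Function.Surjective (hmap s n)) :
    Module.finrank k (Coh.HH X F 0) + Module.finrank k (Coh.HH X F n) ≤
      Module.finrank k (Coh.HH X (Coh.structureModule X) n) + 1 := by
  have h := Hopf.hopf (dualPairing k F n) (fun x φ hxφ => by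
    by_contra hcon
    push Not at hcon
    apply hcon.2
    ext y
    obtain ⟨z, hz⟩ := hs _ (secHom_ne_zero (F := F) ((map_ne_zero_iff _ (equivAdd F).injective).2 hcon.1)) y
    have := congr($hxφ z)
    rw [← hz]
    exact this)
  rwa [Subspace.dual_finrank_eq, Subspace.dual_finrank_eq] at h

/-- `h⁰(F) + h¹(F) ≤ g + 1`. -/
theorem finrank_add_le [IsIntegral X] [IsProper (X ↘ (Spec (CommRingCat.of k)))] (hd : topologicalKrullDim X ≤ 1)
    {F : X.Modules} (hF : LocEmb F) [Module.Finite k (Coh.HH X F 0)] [Module.Finite k (Coh.HH X F 1)]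
    [Nontrivial (Coh.HH X F 0)] [Nontrivial (Coh.HH X F 1)] :
    Module.finrank k (Coh.HH X F 0) + Module.finrank k (Coh.HH X F 1) ≤ Curv2.genus k X + 1 := by
  have hN := Groth.Agent.CurvesB.CurveRR.isNoetherian_of_proper k X
  have hfO := Groth.Agent.VarietyA.CurveFin.finite_HH_structure k X 1
  exact finrank_add_le' k F 1 fun s hs => hmap_surjective_of_unit hd hF s hs 0

/-- `h⁰(L) + h¹(L) ≤ g + 1` for an invertible module with `h⁰, h¹ > 0`. -/
theorem finrank_add_le_of_isInvertible [IsIntegral X] [IsProper (X ↘ (Spec (CommRingCat.of k)))]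
    (hd : topologicalKrullDim X ≤ 1) {L : X.Modules} (hL : PicF.IsInvertible L)
    (h0 : 0 < Module.finrank k (Coh.HH X L 0)) (h1 : 0 < Module.finrank k (Coh.HH X L 1)) :
    Module.finrank k (Coh.HH X L 0) + Module.finrank k (Coh.HH X L 1) ≤ Curv2.genus k X + 1 := by
  have hf0 := Groth.Agent.VarietyA.CurveFin.finite_HH k X hL 0
  have hf1 := Groth.Agent.VarietyA.CurveFin.finite_HH k X hL 1
  have hn0 : Nontrivial (Coh.HH X L 0) := Module.nontrivial_of_finrank_pos h0
  have hn1 : Nontrivial (Coh.HH X L 1) := Module.nontrivial_of_finrank_pos h1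
  exact finrank_add_le k hd (Groth.Agent.CurvesB.InvEmb.locEmb_of_isInvertible hL)

/-- Riemann–Roch in the form `deg L = h⁰(L) - h¹(L) - 1 + g`. -/
theorem deg_eq' [IsIntegral X] [IsProper (X ↘ (Spec (CommRingCat.of k)))] (hd : topologicalKrullDim X ≤ 1)
    (L : X.Modules) :
    Curv2.deg k X L 1 = (Module.finrank k (Coh.HH X L 0) : ℤ) - Module.finrank k (Coh.HH X L 1) - 1 +
      Curv2.genus k X := by
  have hN := Groth.Agent.CurvesB.CurveRR.isNoetherian_of_proper k X
  rw [deg_eq k X hd L, Groth.Agent.VarietyA.CurveFin.finrank_h0_structure k X]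
  push_cast
  ring

/-- **Clifford's theorem.** -/
theorem clifford [IsIntegral X] [IsProper (X ↘ (Spec (CommRingCat.of k)))]
    (hd : topologicalKrullDim X ≤ 1) {L : X.Modules} (hL : PicF.IsInvertible L)
    (h0 : 0 < Module.finrank k (Coh.HH X L 0)) (h1 : 0 < Module.finrank k (Coh.HH X L 1)) :
    2 * ((Module.finrank k (Coh.HH X L 0) : ℤ) - 1) ≤ Curv2.deg k X L 1 := by
  have h2 := finrank_add_le_of_isInvertible k hd hL h0 h1
  rw [deg_eq' k hd L]
  omega

end K334.Clifford
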