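import Groth.Agent.Curves.K334.GorNum
import Groth.Agent.S1530
import Groth.Agent.Sga5.AmpleFib

/-!
# An ample module has positive degree on connected subcurves
-/

set_option autoImplicit false
universe u
open CategoryTheory CategoryTheory.Limits AlgebraicGeometry TopologicalSpace Opposite

namespace K334.AmpleDeg

open Groth.Agent.CurvesC.TailNum Groth.Agent.CurvesC.TailGeom Groth.Agent.CurvesC.DegIso Groth.Agent.CurvesC

variable (k : Type u) [Field k]

/-- An ample invertible module on a connected proper scheme of dimension one over a field has positive degree. -/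
theorem deg_pos (Y : Scheme.{u}) [Y.Over (Spec (CommRingCat.of k))] [IsProper (Y ↘ (Spec (CommRingCat.of k)))]
    [ConnectedSpace Y] (hdim : topologicalKrullDim Y = 1) {L : Y.Modules} (hL : CohB1.IsAmple L) :
    0 < Curv2.deg k Y L 1 := by
  classical
  have hN := GorNum.isNoetherian_of_proper k Y
  have key := Groth.Agent.S1641.result k Y hdim.le 1 L
    (Groth.Agent.Ega2.QCohLocal.isFinLocFreeOfRank_one_iff.mpr hL.1)
  rw [key]
  have hfin := NoetherianSpace.finite_irreducibleComponents (α := (Y : Type u))
  have := hfin.to_subtype
  have := Fintype.ofFinite (irreducibleComponents (Y : Type u))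
  rw [finsum_eq_sum_of_fintype]
  refine Finset.sum_pos (fun Z _ => ?_) ?_
  · have hZ := TailMain.pure_of_connected Y hdim Z.1 Z.2
    rw [if_pos hZ]
    refine mul_pos ?_ ?_
    · have h1 := Groth.Agent.VarietyB.DegComp.length_stalk_ne_top (Coh.structureModule Y)
        (Groth.Agent.CurvesC.UnitCoh.isCoh_unit Y) Z
      rw [← (Groth.Agent.CycB.PushStalk.unitStalk Y Z.2.1.genericPoint).length_eq] at h1
      have h2 : Module.length (Y.presheaf.stalk Z.2.1.genericPoint) (Y.presheaf.stalk Z.2.1.genericPoint) ≠ 0 := by
        rw [Ne, Module.length_eq_zero_iff]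
        exact not_subsingleton _
      have h3 : (Module.length (Y.presheaf.stalk Z.2.1.genericPoint) (Y.presheaf.stalk Z.2.1.genericPoint)).toNat ≠ 0 := by
        rw [Ne, ENat.toNat_eq_zero]
        push Not
        exact ⟨h2, h1⟩
      exact_mod_cast Nat.pos_of_ne_zero h3
    · set I := (Y.irreducibleComponentIdeal Z.1 Z.2).radical with hI
      have hran : Set.range I.subschemeι = Z.1 := Scheme.IdealSheafData.range_subschemeι I
      have hred : AlgebraicGeometry.IsReduced I.subscheme := Groth.Agent.Ega1.ReducedSub.isReduced_subscheme_radical _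
      have hirr : IrreducibleSpace I.subscheme := by
        have hemb := I.subschemeι.isClosedEmbedding
        let h := hemb.isEmbedding.toHomeomorph
        have h1 : IsIrreducible (Set.range I.subschemeι) := by
          rw [hran]; exact Z.2.1
        have h1' : IrreducibleSpace (Set.range I.subschemeι) := isIrreducible_iff_irreducibleSpace.mp h1
        have h2 := (IrreducibleSpace.isIrreducible_univ (Set.range I.subschemeι)).image h.symm
          h.symm.continuous.continuousOn
        rw [Set.image_univ, h.symm.surjective.range_eq] at h2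
        exact (irreducibleSpace_def _).mpr h2
      have hint : IsIntegral I.subscheme := isIntegral_of_irreducibleSpace_of_isReduced _
      have hd1 : topologicalKrullDim I.subscheme = 1 := by
        rw [← Groth.Agent.VarietyB.DegComp.topologicalKrullDim_range_eq I.subschemeι, hran]
        exact hZ
      let _ : I.subscheme.Over (Spec (CommRingCat.of k)) :=
        ⟨I.subschemeι ≫ (Y ↘ (Spec (CommRingCat.of k)))⟩
      have hP : IsProper (I.subscheme ↘ Spec (CommRingCat.of k)) :=
        inferInstanceAs (IsProper (I.subschemeι ≫ (Y ↘ (Spec (CommRingCat.of k)))))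
      have hLI := Groth.Agent.Sga5.AmpleFib.isAmple_pullback I.subschemeι hL
      exact (Groth.Agent.S1530.result k I.subscheme hd1 _ hLI.1).mp hLI
  · obtain ⟨y⟩ : Nonempty Y := inferInstance
    have h3 : y ∈ ⋃₀ irreducibleComponents (Y : Type u) := by
      rw [sUnion_irreducibleComponents]; trivial
    obtain ⟨W, hW1, -⟩ := h3
    exact ⟨⟨W, hW1⟩, Finset.mem_univ _⟩

section Sub

attribute [local instance] subOver

variable {X : Scheme.{u}} [X.Over (Spec (CommRingCat.of k))]

theorem dd_pos [IsProper (X ↘ (Spec (CommRingCat.of k)))] {L : X.Modules} (hL : CohB1.IsAmple L)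
    (J : X.IdealSheafData) [ConnectedSpace J.subscheme] (hJ : topologicalKrullDim J.subscheme = 1) :
    0 < GorNum.dd k X L J := by
  have hPJ : IsProper (J.subscheme ↘ Spec (CommRingCat.of k)) :=
    inferInstanceAs (IsProper (J.subschemeι ≫ (X ↘ (Spec (CommRingCat.of k)))))
  exact deg_pos k J.subscheme hJ (Groth.Agent.Sga5.AmpleFib.isAmple_pullback J.subschemeι hL)

end Sub

end K334.AmpleDeg
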