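import Mathlib.RingTheory.Polynomial.Resultant.Basic
import Mathlib.FieldTheory.IsAlgClosed.AlgebraicClosure
import Mathlib.FieldTheory.IsAlgClosed.Basic

/-!
# Resultants of binary forms

* `resultant_ne_zero_iff`: for `f`, `g` of degrees at most `m`, `n`, the resultant with size parameters `m`, `n` is
  nonzero iff `f`, `g` are coprime and not both of them drop degree.
* `isCoprime_rev_iff`: combined with the reversed polynomials.
-/

set_option autoImplicit false
universe u v

namespace K334.BinRes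

open Polynomial

variable {k : Type u} [Field k]

theorem resultant_ne_zero_iff {f g : k[X]} {m n : ℕ} (hf : f.natDegree ≤ m) (hg : g.natDegree ≤ n)
    (hm : m ≠ 0) (hn : n ≠ 0) :
    f.resultant g m n ≠ 0 ↔ IsCoprime f g ∧ (f.coeff m ≠ 0 ∨ g.coeff n ≠ 0) := by
  constructor
  · intro hres
    refine ⟨?_, ?_⟩
    · obtain ⟨p, q, -, -, hpq⟩ := exists_mul_add_mul_eq_C_resultant f g hf hg (Or.inl hm)
      refine ⟨C (f.resultant g m n)⁻¹ * p, C (f.resultant g m n)⁻¹ * q, ?_⟩
      have : C (f.resultant g m n)⁻¹ * p * f + C (f.resultant g m n)⁻¹ * q * g =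
          C (f.resultant g m n)⁻¹ * (f * p + g * q) := by ring
      rw [this, hpq, ← C_mul, inv_mul_cancel₀ hres, C_1]
    · by_contra hcon
      push Not at hcon
      apply hres
      apply resultant_eq_zero_of_lt_lt
      · refine lt_of_le_of_ne hf fun h1 => ?_
        have h2 : f = 0 := by rw [← leadingCoeff_eq_zero, leadingCoeff, h1, hcon.1]
        rw [h2, natDegree_zero] at h1
        exact hm h1.symm
      · refine lt_of_le_of_ne hg fun h1 => ?_
        have h2 : g = 0 := by rw [← leadingCoeff_eq_zero, leadingCoeff, h1, hcon.2]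
        rw [h2, natDegree_zero] at h1
        exact hn h1.symm
  · rintro ⟨hcop, hcoeff⟩ hres
    rcases hcoeff with h1 | h1
    · have h2 : f.natDegree = m := le_antisymm hf (le_natDegree_of_ne_zero h1)
      obtain ⟨c, hc⟩ := Nat.exists_eq_add_of_le hg
      rw [hc, resultant_add_right_deg _ _ _ _ _ le_rfl] at hres
      have h3 := (mul_eq_zero.mp hres).resolve_left (pow_ne_zero _ h1)
      rw [← h2] at h3
      exact (resultant_eq_zero_iff.mp h3).2 hcop
    · have h2 : g.natDegree = n := le_antisymm hg (le_natDegree_of_ne_zero h1)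
      obtain ⟨c, hc⟩ := Nat.exists_eq_add_of_le hf
      rw [hc, resultant_add_left_deg _ _ _ _ _ le_rfl] at hres
      have h3 := (mul_eq_zero.mp hres).resolve_left (mul_ne_zero (pow_ne_zero _ (by norm_num)) (pow_ne_zero _ h1))
      rw [← h2] at h3
      exact (resultant_eq_zero_iff.mp h3).2 hcop

variable {m : ℕ}

/-- the polynomial with given coefficients -/
noncomputable def poly (c : Fin (m + 1) → k) : k[X] := ∑ i : Fin (m + 1), C (c i) * X ^ (i : ℕ)

/-- the polynomial with reversed coefficients -/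
noncomputable def rpoly (c : Fin (m + 1) → k) : k[X] := ∑ i : Fin (m + 1), C (c i) * X ^ (m - (i : ℕ))

lemma coeff_poly (c : Fin (m + 1) → k) (i : Fin (m + 1)) : (poly c).coeff i = c i := by
  rw [poly, finsetSum_coeff]
  simp only [coeff_C_mul, coeff_X_pow]
  rw [Finset.sum_eq_single i]
  · simp
  · intro j _ hj
    have : (i : ℕ) ≠ (j : ℕ) := fun h => hj (Fin.ext h.symm)
    simp [this]
  · simp

lemma coeff_rpoly (c : Fin (m + 1) → k) (i : Fin (m + 1)) : (rpoly c).coeff (m - (i : ℕ)) = c i := by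
  rw [rpoly, finsetSum_coeff]
  simp only [coeff_C_mul, coeff_X_pow]
  rw [Finset.sum_eq_single i]
  · simp
  · intro j _ hj
    have : m - (i : ℕ) ≠ m - (j : ℕ) := fun h => hj (Fin.ext (by omega))
    simp [this]
  · simp

lemma natDegree_poly_le (c : Fin (m + 1) → k) : (poly c).natDegree ≤ m := by
  rw [poly]
  refine natDegree_sum_le_of_forall_le _ _ fun i _ => ?_
  refine (natDegree_C_mul_X_pow_le _ _).trans (by omega)

lemma poly_ne_zero {c : Fin (m + 1) → k} (h : c ≠ 0) : poly c ≠ 0 := by
  intro h0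
  apply h
  ext i
  rw [← coeff_poly c i, h0]; rfl

lemma rpoly_ne_zero {c : Fin (m + 1) → k} (h : c ≠ 0) : rpoly c ≠ 0 := by
  intro h0
  apply h
  ext i
  rw [← coeff_rpoly c i, h0]; rfl

lemma aeval_rpoly {K : Type*} [Field K] [Algebra k K] (c : Fin (m + 1) → k) {x : K} (hx : x ≠ 0) :
    aeval x (rpoly c) = x ^ m * aeval x⁻¹ (poly c) := by
  rw [rpoly, poly, map_sum, map_sum, Finset.mul_sum]
  refine Finset.sum_congr rfl fun i _ => ?_
  rw [map_mul, map_mul, aeval_C, map_pow, map_pow, aeval_X, aeval_X, aeval_C, mul_left_comm]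
  congr 1
  have h1 : x ^ m = x ^ (m - (i : ℕ)) * x ^ (i : ℕ) := by rw [← pow_add]; congr 1; omega
  rw [h1, mul_assoc, ← mul_pow, mul_inv_cancel₀ hx, one_pow, mul_one]

lemma aeval_zero_rpoly {K : Type*} [Field K] [Algebra k K] (c : Fin (m + 1) → k) :
    aeval (0 : K) (rpoly c) = algebraMap k K ((poly c).coeff m) := by
  have h1 := coeff_poly c (Fin.last m)
  have h2 := coeff_rpoly c (Fin.last m)
  simp only [Fin.val_last, Nat.sub_self] at h1 h2
  rw [h1, ← h2, ← coeff_zero_eq_aeval_zero']

theorem isCoprime_and_iff {n : ℕ} (q : Fin (m + 1) → k) (ξ : Fin (n + 1) → k) (hm : m ≠ 0) (hn : n ≠ 0) :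
    (IsCoprime (poly q) (poly ξ) ∧ IsCoprime (rpoly q) (rpoly ξ)) ↔
      (poly q).resultant (poly ξ) m n ≠ 0 := by
  rw [resultant_ne_zero_iff (natDegree_poly_le q) (natDegree_poly_le ξ) hm hn]
  refine and_congr_right fun hcop => ?_
  rw [isCoprime_iff_aeval_ne_zero_of_isAlgClosed k (AlgebraicClosure k)] at hcop ⊢
  constructor
  · intro h1
    have h2 := h1 0
    rw [aeval_zero_rpoly, aeval_zero_rpoly] at h2
    refine h2.imp ?_ ?_
    · intro h3 h4
      apply h3; rw [h4, map_zero]
    · intro h3 h4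
      apply h3; rw [h4, map_zero]
  · intro h1 a
    by_cases ha : a = 0
    · subst ha
      rw [aeval_zero_rpoly, aeval_zero_rpoly]
      refine h1.imp ?_ ?_
      · intro h3; exact (_root_.map_ne_zero _).mpr h3
      · intro h3; exact (_root_.map_ne_zero _).mpr h3
    · rw [aeval_rpoly _ ha, aeval_rpoly _ ha]
      refine (hcop a⁻¹).imp ?_ ?_
      · intro h3; exact mul_ne_zero (pow_ne_zero _ ha) h3
      · intro h3; exact mul_ne_zero (pow_ne_zero _ ha) h3

end K334.BinRes
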