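import Groth.Agent.Curves.K334.GorNum
import Groth.Agent.S1518
import Groth.Agent.S10962
import Groth.Agent.S0844
import Groth.Agent.Sga67.CMReg
import Groth.Agent.VarietyB.GGStalk
import Groth.Agent.CurvesC.DegZeroSec512
import Groth.Agent.Fdesc.LocGenAmple

/-!
# Globally generated modules and morphisms to projective space on curves

* `isGloballyGenerated_twist`: `O(d)`, `d ≥ 0`, is globally generated;
* `deg_nonneg_of_gg`: a globally generated invertible module on a connected proper scheme of dimension one has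
  degree `≥ 0`;
* `const_of_deg`: `Y` proper reduced connected of dimension one, `A` ample on `P`, `f : Y ⟶ P` with
  `deg f^*A ≤ 0` (and `≥ 0` on the subcurves): `f` is constant;
* `gg_le`: the genus of a closed subscheme of dimension one is at most the genus.
-/

set_option autoImplicit false
universe u
open CategoryTheory CategoryTheory.Limits AlgebraicGeometry TopologicalSpace Opposite

namespace K334.ConstMap

open Groth.Agent.CurvesC.TailNum Groth.Agent.CurvesC.TailGeom Groth.Agent.CurvesC.DegIso Groth.Agent.CurvesC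

theorem isGloballyGenerated_congr {X : Scheme.{u}} {F G : X.Modules} (e : F ≅ G)
    (h : Curv2.IsGloballyGenerated F) : Curv2.IsGloballyGenerated G := by
  obtain ⟨ι, p, hp⟩ := h
  exact ⟨ι, p ≫ e.hom, epi_comp _ _⟩

theorem isGloballyGenerated_twist (n : ℕ) (R : Type u) [CommRing R] (d : ℤ) (hd : 0 ≤ d) :
    Curv2.IsGloballyGenerated (Twist.twistProjSpace n R d) := by
  have hreg : Groth.Agent.Sga67.CMReg.Reg (Coh.structureModule (CohB1.ProjSpace n R)) 0 := by
    intro q h1 h2
    have h3 := Groth.Agent.S0844.result R n (0 - q) q (by omega) (by omega)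
    let : (CohB1.ProjSpace n R).Over (Spec (CommRingCat.of R)) := ⟨CohB1.ProjSpace.toSpec n R⟩
    exact (Groth.Agent.Fga.EulerIso.HHequiv R
      (Groth.Agent.Ega2.Tens.lunit (Twist.twistProjSpace n R (0 - q))) q).toEquiv.subsingleton
  exact isGloballyGenerated_congr (Groth.Agent.Ega2.Tens.lunit _)
    (Groth.Agent.Sga67.CMReg.isGloballyGenerated (Groth.Agent.CurvesC.UnitCoh.isCoh_unit _).1 hreg d hd)

theorem exists_section_ne_zero {W : Scheme.{u}} [Nonempty W] {L : W.Modules} (hL : PicF.IsInvertible L)
    (hg : Curv2.IsGloballyGenerated L) : ∃ s : Coh.structureModule W ⟶ L, s ≠ 0 := by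
  obtain ⟨w⟩ : Nonempty W := inferInstance
  by_contra hcon
  push Not at hcon
  obtain ⟨ι, p, hp⟩ := hg
  have hp0 : p = 0 := by
    refine Cofan.IsColimit.hom_ext (SheafOfModules.isColimitFreeCofan ι) _ _ fun i => ?_
    have h1 : (SheafOfModules.freeCofan ι).inj i ≫ p = 0 := hcon _
    exact h1.trans (comp_zero (f := (SheafOfModules.freeCofan ι).inj i)).symm
  have h1 : 𝟙 L = 0 := by
    refine hp.left_cancellation _ _ ?_
    rw [hp0]
    exact zero_comp.trans zero_comp.symm
  obtain ⟨U, e, hw, he⟩ := (Groth.Agent.Fdesc.LocGen.isInvertible_iff L).mp hL w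
  have h2 : e = 0 := congrArg (fun φ : L ⟶ L => φ.app U e) h1
  have h3 := he.bijective.1
  have h4 : (1 : Γ(W, U)) = 0 := h3 (by simp only [h2, smul_zero])
  have h5 : Nonempty U := ⟨⟨w, hw⟩⟩
  exact one_ne_zero h4

variable (k : Type u) [Field k]

/-- A globally generated invertible module on a connected proper scheme of dimension one has nonnegative degree. -/
theorem deg_nonneg_of_gg (Y : Scheme.{u}) [Y.Over (Spec (CommRingCat.of k))] [IsProper (Y ↘ (Spec (CommRingCat.of k)))]
    [ConnectedSpace Y] (hdim : topologicalKrullDim Y = 1) {L : Y.Modules} (hL : PicF.IsInvertible L)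
    (hg : Curv2.IsGloballyGenerated L) : 0 ≤ Curv2.deg k Y L 1 := by
  classical
  have hN := GorNum.isNoetherian_of_proper k Y
  have key := Groth.Agent.S1641.result k Y hdim.le 1 L
    (Groth.Agent.Ega2.QCohLocal.isFinLocFreeOfRank_one_iff.mpr hL)
  rw [key]
  have hfin := NoetherianSpace.finite_irreducibleComponents (α := (Y : Type u))
  have := hfin.to_subtype
  have := Fintype.ofFinite (irreducibleComponents (Y : Type u))
  rw [finsum_eq_sum_of_fintype]
  refine Finset.sum_nonneg fun Z _ => ?_
  have hZ := TailMain.pure_of_connected Y hdim Z.1 Z.2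
  rw [if_pos hZ]
  refine mul_nonneg (Int.natCast_nonneg _) ?_
  set I := (Y.irreducibleComponentIdeal Z.1 Z.2).radical with hI
  have hran : Set.range I.subschemeι = Z.1 := Scheme.IdealSheafData.range_subschemeι I
  have hred : AlgebraicGeometry.IsReduced I.subscheme := Groth.Agent.Ega1.ReducedSub.isReduced_subscheme_radical _
  have hirr : IrreducibleSpace I.subscheme := by
    have hemb := I.subschemeι.isClosedEmbedding
    let h := hemb.isEmbedding.toHomeomorph
    have h1 : IsIrreducible (Set.range I.subschemeι) := by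
      rw [hran]; exact Z.2.1
    have h1' : IrreducibleSpace (Set.range I.subschemeι) := isIrreducible_iff_irreducibleSpace.mp h1
    have h2 := (IrreducibleSpace.isIrreducible_univ (Set.range I.subschemeι)).image h.symm
      h.symm.continuous.continuousOn
    rw [Set.image_univ, h.symm.surjective.range_eq] at h2
    exact (irreducibleSpace_def _).mpr h2
  have hint : IsIntegral I.subscheme := isIntegral_of_irreducibleSpace_of_isReduced _
  have hd1 : topologicalKrullDim I.subscheme = 1 := by
    rw [← Groth.Agent.VarietyB.DegComp.topologicalKrullDim_range_eq I.subschemeι, hran]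
    exact hZ
  let _ : I.subscheme.Over (Spec (CommRingCat.of k)) :=
    ⟨I.subschemeι ≫ (Y ↘ (Spec (CommRingCat.of k)))⟩
  have hP : IsProper (I.subscheme ↘ Spec (CommRingCat.of k)) :=
    inferInstanceAs (IsProper (I.subschemeι ≫ (Y ↘ (Spec (CommRingCat.of k)))))
  have hLI := Groth.Agent.Fdesc.LocGen.isInvertible_pullback I.subschemeι hL
  obtain ⟨s, hs⟩ := exists_section_ne_zero hLI
    (Groth.Agent.VarietyB.GGStalk.isGloballyGenerated_pullback I.subschemeι L hg)
  exact Groth.Agent.S1518.result k I.subscheme hd1 _ hLI s hs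

section Sub

attribute [local instance] subOver

variable {X : Scheme.{u}} [X.Over (Spec (CommRingCat.of k))]

/-- The genus of a closed subscheme of a scheme of dimension `≤ 1` is at most the genus. -/
theorem gg_le [IsProper (X ↘ (Spec (CommRingCat.of k)))] (hdim : topologicalKrullDim X ≤ 1)
    (J : X.IdealSheafData) : GorNum.gg k X J ≤ Curv2.genus k X := by
  have hN := GorNum.isNoetherian_of_proper k X
  have h1 : Epi (ClSub.toSubscheme J) := DualDeg.epi_toSubscheme J
  have h2 := Groth.Agent.CurvesB.SubH1.hmap_one_surjective_of_epi hdim (ClSub.toSubscheme J)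
  have h3 : GorNum.gg k X J = Module.finrank k (Coh.HH X (ClSub.quotMod J) 1) := by
    rw [← finrank_quotMod k X J 1]; rfl
  rw [h3]
  have h4 := Groth.Agent.S0002.result k X (Coh.structureModule X) (UnitCoh.isCoh_unit _) 1
  have h5 := LinearMap.finrank_le_finrank_of_surjective
    (f := Groth.Agent.CurvesB.SubH1.hmapₗ k (ClSub.toSubscheme J) 1) h2
  exact_mod_cast h5

end Sub

section Const

attribute [local instance] subOver

/-- A morphism `f : Y ⟶ P` from a reduced connected proper curve with `deg f^*A ≤ 0` for an ample `A`, nonnegative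
on the subcurves, is constant. -/
theorem const_of_deg (Y : Scheme.{u}) [Y.Over (Spec (CommRingCat.of k))] [IsProper (Y ↘ (Spec (CommRingCat.of k)))]
    [AlgebraicGeometry.IsReduced Y] [ConnectedSpace Y] (hdim : topologicalKrullDim Y = 1) {P : Scheme.{u}}
    [QuasiSeparatedSpace P]
    (f : Y ⟶ P) {A : P.Modules} (hA : CohB1.IsAmple A)
    (hg : Curv2.IsGloballyGenerated ((Scheme.Modules.pullback f).obj A))
    (hdeg : Curv2.deg k Y ((Scheme.Modules.pullback f).obj A) 1 ≤ 0) (x y : Y) : f x = f y := by
  by_contra hne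
  wlog h : ∃ U : P.Opens, f x ∈ U ∧ f y ∉ U generalizing x y
  · have h1 : ¬ Inseparable (f x) (f y) := fun h => hne h.eq
    rw [not_inseparable_iff_exists_open] at h1
    obtain ⟨U, hU, hxor⟩ := h1
    rcases hxor with ⟨ha, hb⟩ | ⟨ha, hb⟩
    · exact h ⟨⟨U, hU⟩, ha, hb⟩
    · exact this y x (fun e => hne e.symm) ⟨⟨U, hU⟩, ha, hb⟩
  obtain ⟨U, hx, hy⟩ := h
  obtain ⟨m, t, h1, h2, -⟩ := Groth.Agent.Fdesc.LocGen.IsAmple.exists_genLocus_le hA hx
  have hinv := Groth.Agent.Fdesc.LocGen.isInvertible_tensorPow hA.1 (m + 1)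
  have hinv' := Groth.Agent.Fdesc.LocGen.isInvertible_pullback f hinv
  have hfA := Groth.Agent.Fdesc.LocGen.isInvertible_pullback f hA.1
  obtain ⟨e⟩ := Groth.Agent.Ega3B.PullTensor.nonempty_pullPowIso f hA.1 (m + 1)
  let s := Groth.Agent.Ega2.Weight.pullHom f t
  have hs : s ≠ 0 := by
    intro h0
    have h3 : x ∈ CohB1.genLocus _ s := by
      rw [Groth.Agent.Ega2.Weight.genLocus_pullHom f hinv]
      exact h1
    rw [h0, Groth.Agent.Ega2.FiniteSet.genLocus_zero] at h3
    exact h3
  have hd : Curv2.deg k Y ((Scheme.Modules.pullback f).obj (CohB1.tensorPow A (m + 1))) 1 ≤ 0 := by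
    rw [deg_congr k e, CanonGG.deg_pow k Y hdim.le hfA]
    exact mul_nonpos_of_nonneg_of_nonpos (Int.natCast_nonneg _) hdeg
  have hiso := DegZeroSec512.isIso_of_deg k hdim _ hinv' s hs hd (fun J hr hc h1 _ => by
    have hPJ := DegZeroSec512.isProper_sub k J
    rw [deg_congr k ((Scheme.Modules.pullback J.subschemeι).mapIso e),
      CanonGG.deg_restrict_pow k Y _ hfA J h1.le]
    refine mul_nonneg (Int.natCast_nonneg _) ?_
    exact deg_nonneg_of_gg k J.subscheme h1 (Groth.Agent.Fdesc.LocGen.isInvertible_pullback _ hfA)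
      (Groth.Agent.VarietyB.GGStalk.isGloballyGenerated_pullback _ _ hg))
  have h4 : y ∈ CohB1.genLocus _ s :=
    (Groth.Agent.Fdesc.LocGen.mem_genLocus_iff s y).mpr
      ⟨⊤, trivial, (Groth.Agent.Fdesc.LocGen.isIso_iff_isGen s).mp hiso⟩
  rw [Groth.Agent.Ega2.Weight.genLocus_pullHom f hinv] at h4
  exact hy (h2 h4)

end Const

end K334.ConstMap
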