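import Groth.Agent.CurvesC.DualNodal
import Groth.Agent.CurvesC.DualDegForm
import Groth.Agent.CurvesC.TailUnion
import Groth.Agent.CurvesC.CanonGG
import Groth.Agent.CurvesB.VanAsm464
import Groth.Agent.S1605
import Groth.Agent.S1606

/-!
# Numerical invariants of connected subcurves of a reduced Gorenstein curve

`X` proper reduced connected of dimension one over an algebraically closed field, `w` an invertible module with a
dual pair `t`.  For a reduced connected closed subscheme `Z` (ideal `J`) of dimension one: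

* `adjunction`: `deg_Z w = 2 g_Z - 2 + k_Z`;
* `kk_pos`: `k_Z ≥ 1` unless `Z = X`;
* `exists_subcurve_of_h1`: if `H¹(X, L) ≠ 0` then `deg_Z L ≤ 2 g_Z - 2` for some `Z`.
-/

set_option autoImplicit false
universe u
open CategoryTheory CategoryTheory.Limits AlgebraicGeometry TopologicalSpace Opposite

namespace K334.GorNum

open Groth.Agent.CurvesC.TailNum Groth.Agent.CurvesC.TailGeom Groth.Agent.CurvesC.DegIso Groth.Agent.CurvesC

section Alg

theorem finrank_eq_one {k R : Type*} [Field k] [IsAlgClosed k] [Ring R] (hR : IsField R) (φ : k →+* R)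
    (mR : Module k R) (hmR : mR = Module.compHom R φ) (hfin : Module.Finite k R) : Module.finrank k R = 1 := by
  subst hmR
  let _ : Field R := hR.toField
  let _ : Algebra k R := φ.toAlgebra
  have h1 : Module.Finite k R := hfin
  have h2 : Algebra.IsIntegral k R := Algebra.IsIntegral.of_finite k R
  have h3 := IsAlgClosed.algebraMap_bijective_of_isIntegral (k := k) (K := R)
  have e : k ≃ₗ[k] R := LinearEquiv.ofBijective (Algebra.linearMap k R) h3
  exact e.symm.finrank_eq.trans (Module.finrank_self k)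

end Alg

variable (k : Type u) [Field k]

section Sub

attribute [local instance] subOver Groth.Agent.CurvesC.CurveNum.topMod

variable (X : Scheme.{u}) [X.Over (Spec (CommRingCat.of k))]

theorem isNoetherian_of_proper [IsProper (X ↘ (Spec (CommRingCat.of k)))] : IsNoetherian X := by
  have hLN : IsLocallyNoetherian X := LocallyOfFiniteType.isLocallyNoetherian (X ↘ (Spec (CommRingCat.of k)))
  have hCS : CompactSpace X := QuasiCompact.compactSpace_of_compactSpace (X ↘ (Spec (CommRingCat.of k)))
  exact { }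

theorem finrank_quotMod_zero_eq_one [IsAlgClosed k] [IsProper (X ↘ (Spec (CommRingCat.of k)))]
    (J : X.IdealSheafData) [AlgebraicGeometry.IsReduced J.subscheme] [ConnectedSpace J.subscheme] :
    Module.finrank k (Coh.HH X (ClSub.quotMod J) 0) = 1 := by
  have h1 := finite_quotMod k X J 0
  rw [← finrank_quotMod_zero]
  refine finrank_eq_one (isField_Γtop k X J) (Coh.toGlobal (J.subscheme ↘ (Spec (CommRingCat.of k)))) _ rfl ?_
  exact Module.Finite.equiv ((CurveNum.hZeroTop k J.subscheme).symm.trans (quotEquiv k X J 0)).symm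

/-- The intersection with the rest of the curve. -/
noncomputable abbrev inter (J : X.IdealSheafData) : X.IdealSheafData :=
  J ⊔ (Scheme.IdealSheafData.vanishingIdeal ⟨closure ((J.support : Set X)ᶜ), isClosed_closure⟩)

/-- `k_Z`. -/
noncomputable def kk (J : X.IdealSheafData) : ℤ :=
  (Module.finrank k (Coh.HH X (ClSub.quotMod (inter X J)) 0) : ℤ)

/-- the genus of a closed subscheme. -/
noncomputable def gg (J : X.IdealSheafData) : ℤ :=
  (Curv2.genus k J.subscheme : ℤ)

/-- the degree on a closed subscheme. -/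
noncomputable def dd (L : X.Modules) (J : X.IdealSheafData) : ℤ :=
  Curv2.deg k J.subscheme ((Scheme.Modules.pullback J.subschemeι).obj L) 1

variable {X}

theorem complIdeal_eq [AlgebraicGeometry.IsReduced X] [IsNoetherian X] (Y : Closeds X) :
    complIdeal Y = Scheme.IdealSheafData.vanishingIdeal ⟨closure ((Y : Set X)ᶜ), isClosed_closure⟩ := by
  have h := Groth.Agent.Ega1.ReducedSub.ker_eq_vanishingIdeal
    (Scheme.Opens.ι (⟨(Y : Set X)ᶜ, Y.isClosed.isOpen_compl⟩ : X.Opens))
  rw [complIdeal, h]
  congr 2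
  rw [Scheme.Opens.range_ι]
  rfl

/-- `deg_Z w = 2 g_Z - 2 + k_Z`. -/
theorem adjunction [IsAlgClosed k] [IsProper (X ↘ (Spec (CommRingCat.of k)))] [AlgebraicGeometry.IsReduced X]
    (hdim : topologicalKrullDim X = 1) {w : X.Modules} (hw : PicF.IsInvertible w)
    {t : Coh.HH X w 1 →ₗ[k] k} (ht : DualCount.IsPair k t)
    (J : X.IdealSheafData) [AlgebraicGeometry.IsReduced J.subscheme] [ConnectedSpace J.subscheme]
    (hJ : topologicalKrullDim J.subscheme = 1) :
    dd k X w J = 2 * gg k X J - 2 + kk k X J := by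
  have hN := isNoetherian_of_proper k X
  have hPJ : IsProper (J.subscheme ↘ Spec (CommRingCat.of k)) :=
    inferInstanceAs (IsProper (J.subschemeι ≫ (X ↘ (Spec (CommRingCat.of k)))))
  have hNJ : IsNoetherian J.subscheme := isNoetherian_of_proper k J.subscheme
  have h1 := DualDegForm.deg_form k hdim w hw ht J.support
    (TailUnion.subset_closure_interior hdim.le J (TailMain.pure_of_connected _ hJ))
  rw [← TailUnion.eq_vanishingIdeal J, complIdeal_eq] at h1
  have h2 : (gg k X J : ℤ) = Module.finrank k (Coh.HH X (ClSub.quotMod J) 1) := by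
    rw [← finrank_quotMod k X J 1]; rfl
  have h3 := finrank_quotMod_zero_eq_one k X J
  rw [h3] at h1
  unfold dd
  rw [h2]
  refine h1.trans ?_
  unfold kk
  push_cast
  ring

theorem kk_nonneg (J : X.IdealSheafData) : 0 ≤ kk k X J := Int.natCast_nonneg _

theorem gg_nonneg (J : X.IdealSheafData) : 0 ≤ gg k X J := Int.natCast_nonneg _

theorem kk_pos [IsProper (X ↘ (Spec (CommRingCat.of k)))] [AlgebraicGeometry.IsReduced X] [ConnectedSpace X]
    (J : X.IdealSheafData) [Nonempty J.subscheme] (hJ : J ≠ ⊥) : 1 ≤ kk k X J := by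
  have hN := isNoetherian_of_proper k X
  have hne : J.support ≠ ⊤ := fun h => hJ (Scheme.IdealSheafData.support_eq_top_iff.mp h)
  have h1 : Nonempty (J ⊔ complIdeal J.support).subscheme :=
    nonempty_inter J ((nonempty_subscheme_iff J).mp inferInstance) hne
  rw [complIdeal_eq] at h1
  have h2 := finrank_quotMod_zero_pos k X (inter X J)
  unfold kk
  exact_mod_cast h2

theorem kk_bot [AlgebraicGeometry.IsReduced X] : kk k X (⊥ : X.IdealSheafData) = 0 := by
  unfold kk
  have h1 : inter X (⊥ : X.IdealSheafData) = ⊤ := by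
    have h2 : (⟨closure (((⊥ : X.IdealSheafData).support : Set X)ᶜ), isClosed_closure⟩ : Closeds X) = ⊥ := by
      ext1
      simp
    rw [inter, h2]
    simp
  rw [h1]
  have h3 := Groth.Agent.CurvesB.VanAsm464.finrank_quotMod_top k (⊤ : X.IdealSheafData)
  rw [top_sup_eq] at h3
  rw [h3]
  rfl

theorem gg_bot : gg k X (⊥ : X.IdealSheafData) = Curv2.genus k X := by
  unfold gg
  have h1 : Curv2.genus k (⊥ : X.IdealSheafData).subscheme =
    Module.finrank k (Coh.HH X (ClSub.quotMod (⊥ : X.IdealSheafData)) 1) := finrank_quotMod k X ⊥ 1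
  rw [h1, CanonGG.finrank_bot X k 1]
  rfl

theorem dd_bot (L : X.Modules) : dd k X L (⊥ : X.IdealSheafData) = Curv2.deg k X L 1 :=
  deg_pullback_iso k (asIso (⊥ : X.IdealSheafData).subschemeι) rfl L 1

/-- If `H¹(X, L) ≠ 0`, then `deg_Z L ≤ 2 g_Z - 2` for some connected subcurve `Z`. -/
theorem exists_subcurve_of_h1 [IsAlgClosed k] [IsProper (X ↘ (Spec (CommRingCat.of k)))]
    [AlgebraicGeometry.IsReduced X] [ConnectedSpace X]
    (hdim : topologicalKrullDim X = 1) (L : X.Modules) (hL : PicF.IsInvertible L)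
    (h : ∀ J : X.IdealSheafData, AlgebraicGeometry.IsReduced J.subscheme → ConnectedSpace J.subscheme →
      topologicalKrullDim J.subscheme = 1 → 2 * gg k X J - 2 < dd k X L J) :
    Subsingleton (Coh.HH X L 1) := by
  by_contra hcon
  rw [not_subsingleton_iff_nontrivial] at hcon
  have hiso : IsIso (Groth.Agent.CurvesB.SubRank.twι L (⊤ : X.IdealSheafData)) := by
    have h1 : Mono (Groth.Agent.CurvesB.SubRank.twι L (⊤ : X.IdealSheafData)) :=
      Groth.Agent.CurvesB.SubRank.mono_twι hL _
    have h2 : Epi (Groth.Agent.CurvesB.SubRank.twι L (⊤ : X.IdealSheafData)) := by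
      refine Groth.Agent.VarietyA.StalkCrit.epi_of_stalks _ fun x =>
        (Groth.Agent.CurvesB.SubRank.stalkLin_twι_bijective hL _ x ?_).2
      rw [Scheme.IdealSheafData.support_top]
      exact id
    exact isIso_of_mono_of_epi _
  let e := asIso (Groth.Agent.CurvesB.SubRank.twι L (⊤ : X.IdealSheafData))
  have hne : Nontrivial (Coh.HH X (CohB1.tensorMod (ClSub.idealMod (⊤ : X.IdealSheafData)) L) 1) :=
    (Groth.Agent.Fga.EulerIso.HHequiv k e 1).toEquiv.nontrivial
  obtain ⟨J, hJr, hJc, hJd, hJ⟩ := Groth.Agent.S1605.result k X hdim L hL ⊤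
    (by
      rw [Scheme.IdealSheafData.support_top]
      have hE : IsEmpty ((⊥ : Closeds X) : Set X) := ⟨fun x => x.2⟩
      have hE2 : IsEmpty (IrreducibleCloseds ((⊥ : Closeds X) : Set X)) :=
        ⟨fun Z => by obtain ⟨x, -⟩ := Z.isIrreducible.1; exact hE.false x⟩
      have : topologicalKrullDim (((⊥ : Closeds X) : Set X) : Type u) = ⊥ := Order.krullDim_eq_bot
      rw [this]
      exact bot_le) hne
  have h1 := h J hJr hJc hJd
  rw [Groth.Agent.CurvesB.VanAsm464.finrank_quotMod_top k J] at hJ
  have hP : IsProper (J.subscheme ↘ Spec (CommRingCat.of k)) :=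
    inferInstanceAs (IsProper (J.subschemeι ≫ (X ↘ (Spec (CommRingCat.of k)))))
  have h2 := CurveCoh.euler_eq k J.subscheme hJd (Coh.structureModule J.subscheme)
  have h3 : Module.finrank k (Coh.HH J.subscheme (Coh.structureModule J.subscheme) 0) = 1 := by
    rw [finrank_quotMod k X J 0]
    exact finrank_quotMod_zero_eq_one k X J
  have h4 : gg k X J =
    Module.finrank k (Coh.HH J.subscheme (Coh.structureModule J.subscheme) 1) := rfl
  have h5 : dd k X L J ≤
    -2 * Curv2.euler k J.subscheme (Coh.structureModule J.subscheme) + ((0 : ℕ) : ℤ) := hJ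
  rw [h2, h3, ← h4] at h5
  push_cast at h5
  omega

/-- Global generation from `deg_Z L ≥ 2 g_Z`. -/
theorem isGloballyGenerated [IsProper (X ↘ (Spec (CommRingCat.of k)))]
    [AlgebraicGeometry.IsReduced X] [ConnectedSpace X]
    (hdim : topologicalKrullDim X = 1) (L : X.Modules) (hL : PicF.IsInvertible L)
    (h : ∀ J : X.IdealSheafData, AlgebraicGeometry.IsReduced J.subscheme → ConnectedSpace J.subscheme →
      topologicalKrullDim J.subscheme = 1 → 2 * gg k X J ≤ dd k X L J) :
    Curv2.IsGloballyGenerated L :=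
  Groth.Agent.S1606.result k X hdim L hL h

theorem dd_pow [IsProper (X ↘ (Spec (CommRingCat.of k)))] (w : X.Modules) (hw : PicF.IsInvertible w)
    (J : X.IdealSheafData) (hJ : topologicalKrullDim J.subscheme ≤ 1) (m : ℕ) :
    dd k X (CohB1.tensorPow w m) J = m * dd k X w J :=
  CanonGG.deg_restrict_pow k X w hw J hJ m

section Rows

/-- Numerics: positive degree of `w`, `d > a (G - 1)` gives `2 l + k > a w`. -/
theorem num_aux {G d l w κ a : ℤ} (hG : 2 ≤ G) (hw : 1 ≤ w)
    (hb : |2 * (2 * G - 2) * l - 2 * d * w| ≤ (2 * G - 2) * κ) (hd : a * (G - 1) < d) : a * w < 2 * l + κ := by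
  have h1 := (abs_le.mp hb).1
  by_contra hcon
  push Not at hcon
  have h2 : (a * (G - 1)) * w < d * w := mul_lt_mul_of_pos_right hd (by linarith)
  have h3 : (2 * G - 2) * (2 * l + κ) ≤ (2 * G - 2) * (a * w) := mul_le_mul_of_nonneg_left hcon (by linarith)
  nlinarith

theorem num_28 {G d l w κ g : ℤ} (hG : 2 ≤ G) (hw : w = 2 * g - 2 + κ) (hk : 1 ≤ κ) (hw0 : 0 ≤ w)
    (hb : |2 * (2 * G - 2) * l - 2 * d * w| ≤ (2 * G - 2) * κ) (hd : 2 * G - 2 < d) : 2 * g - 2 < l := by
  have h1 := (abs_le.mp hb).1
  by_contra hcon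
  push Not at hcon
  have h2 : (2 * G - 2) * w ≤ d * w := mul_le_mul_of_nonneg_right hd.le hw0
  nlinarith

variable [IsAlgClosed k] [IsProper (X ↘ (Spec (CommRingCat.of k)))]
  [AlgebraicGeometry.IsReduced X] [ConnectedSpace X] (hdim : topologicalKrullDim X = 1) {w : X.Modules}
  (hw : PicF.IsInvertible w) {t : Coh.HH X w 1 →ₗ[k] k} (ht : DualCount.IsPair k t)
  (hg : 2 ≤ (Curv2.genus k X : ℤ)) (L : X.Modules) (hL : PicF.IsInvertible L)

include hdim hw ht hg hL

theorem row28
    (hbal : ∀ J : X.IdealSheafData, AlgebraicGeometry.IsReduced J.subscheme → ConnectedSpace J.subscheme →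
      topologicalKrullDim J.subscheme = 1 →
      |2 * (2 * (Curv2.genus k X : ℤ) - 2) * dd k X L J - 2 * Curv2.deg k X L 1 * dd k X w J| ≤
        (2 * (Curv2.genus k X : ℤ) - 2) * kk k X J)
    (hss : ∀ J : X.IdealSheafData, AlgebraicGeometry.IsReduced J.subscheme → ConnectedSpace J.subscheme →
      topologicalKrullDim J.subscheme = 1 → 0 ≤ dd k X w J)
    (hd : 2 * (Curv2.genus k X : ℤ) - 2 < Curv2.deg k X L 1) : Subsingleton (Coh.HH X L 1) := by
  refine exists_subcurve_of_h1 k hdim L hL fun J hr hc h1 => ?_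
  by_cases hJ : J = ⊥
  · subst hJ
    rw [gg_bot, dd_bot]
    exact hd
  · exact num_28 hg (adjunction k hdim hw ht J h1) (kk_pos k J hJ) (hss J hr hc h1) (hbal J hr hc h1) hd

theorem row29
    (hbal : ∀ J : X.IdealSheafData, AlgebraicGeometry.IsReduced J.subscheme → ConnectedSpace J.subscheme →
      topologicalKrullDim J.subscheme = 1 →
      |2 * (2 * (Curv2.genus k X : ℤ) - 2) * dd k X L J - 2 * Curv2.deg k X L 1 * dd k X w J| ≤
        (2 * (Curv2.genus k X : ℤ) - 2) * kk k X J)
    (hnef : ∀ J : X.IdealSheafData, AlgebraicGeometry.IsReduced J.subscheme → ConnectedSpace J.subscheme →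
      topologicalKrullDim J.subscheme = 1 → 0 ≤ dd k X L J)
    (hd : 3 * ((Curv2.genus k X : ℤ) - 1) < Curv2.deg k X L 1) : Curv2.IsGloballyGenerated L := by
  refine isGloballyGenerated k hdim L hL fun J hr hc h1 => ?_
  by_cases hJ : J = ⊥
  · subst hJ
    rw [gg_bot, dd_bot]
    linarith
  · have e := adjunction k hdim hw ht J h1
    have h2 := kk_pos k J hJ
    have h3 := gg_nonneg k J
    have h4 := hnef J hr hc h1
    by_cases hw0 : dd k X w J ≤ 0
    · omega
    · have h5 := num_aux hg (by omega : 1 ≤ dd k X w J) (hbal J hr hc h1) hd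
      omega

omit hL in
theorem row30
    (hbal : ∀ J : X.IdealSheafData, AlgebraicGeometry.IsReduced J.subscheme → ConnectedSpace J.subscheme →
      topologicalKrullDim J.subscheme = 1 →
      |2 * (2 * (Curv2.genus k X : ℤ) - 2) * dd k X L J - 2 * Curv2.deg k X L 1 * dd k X w J| ≤
        (2 * (Curv2.genus k X : ℤ) - 2) * kk k X J)
    (hamp : ∀ J : X.IdealSheafData, AlgebraicGeometry.IsReduced J.subscheme → ConnectedSpace J.subscheme →
      topologicalKrullDim J.subscheme = 1 → 0 < dd k X L J)
    (hd : 5 * ((Curv2.genus k X : ℤ) - 1) < Curv2.deg k X L 1) :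
    ∀ J : X.IdealSheafData, AlgebraicGeometry.IsReduced J.subscheme → ConnectedSpace J.subscheme →
      topologicalKrullDim J.subscheme = 1 → 2 * gg k X J < dd k X L J := by
  intro J hr hc h1
  by_cases hJ : J = ⊥
  · subst hJ
    rw [gg_bot, dd_bot]
    linarith
  · have e := adjunction k hdim hw ht J h1
    have h2 := kk_pos k J hJ
    have h3 := gg_nonneg k J
    have h4 := hamp J hr hc h1
    by_cases hw0 : dd k X w J ≤ 0
    · omega
    · have h5 := num_aux hg (by omega : 1 ≤ dd k X w J) (hbal J hr hc h1) hd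
      omega

omit hL in
theorem row31
    (hbal : ∀ J : X.IdealSheafData, AlgebraicGeometry.IsReduced J.subscheme → ConnectedSpace J.subscheme →
      topologicalKrullDim J.subscheme = 1 →
      |2 * (2 * (Curv2.genus k X : ℤ) - 2) * dd k X L J - 2 * Curv2.deg k X L 1 * dd k X w J| ≤
        (2 * (Curv2.genus k X : ℤ) - 2) * kk k X J)
    (hamp : ∀ J : X.IdealSheafData, AlgebraicGeometry.IsReduced J.subscheme → ConnectedSpace J.subscheme →
      topologicalKrullDim J.subscheme = 1 → 0 < dd k X L J)
    (hd : 3 * ((Curv2.genus k X : ℤ) - 1) < Curv2.deg k X L 1) (hd' : 2 * (Curv2.genus k X : ℤ) < Curv2.deg k X L 1)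
    (hnotail : ∀ J : X.IdealSheafData, AlgebraicGeometry.IsReduced J.subscheme → ConnectedSpace J.subscheme →
      topologicalKrullDim J.subscheme = 1 → gg k X J = 1 → kk k X J = 1 → False) :
    ∀ J : X.IdealSheafData, AlgebraicGeometry.IsReduced J.subscheme → ConnectedSpace J.subscheme →
      topologicalKrullDim J.subscheme = 1 → 2 * gg k X J < dd k X L J := by
  intro J hr hc h1
  by_cases hJ : J = ⊥
  · subst hJ
    rw [gg_bot, dd_bot]
    linarith
  · have e := adjunction k hdim hw ht J h1
    have h2 := kk_pos k J hJ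
    have h3 := gg_nonneg k J
    have h4 := hamp J hr hc h1
    by_cases hw0 : dd k X w J ≤ 0
    · omega
    · have h5 := num_aux hg (by omega : 1 ≤ dd k X w J) (hbal J hr hc h1) hd
      have h6 := hnotail J hr hc h1
      by_cases h7 : gg k X J = 1
      · by_cases h8 : kk k X J = 1
        · exact absurd (h6 h7 h8) (fun h => h)
        · omega
      · omega

omit hL in
theorem row32
    (hss : ∀ J : X.IdealSheafData, AlgebraicGeometry.IsReduced J.subscheme → ConnectedSpace J.subscheme →
      topologicalKrullDim J.subscheme = 1 → 0 ≤ dd k X w J) (i : ℕ) (hi : 2 ≤ i) :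
    Subsingleton (Coh.HH X (CohB1.tensorPow w i) 1) ∧ Curv2.IsGloballyGenerated (CohB1.tensorPow w i) := by
  have hinv := Groth.Agent.Fdesc.LocGen.isInvertible_tensorPow hw i
  have hi' : (2 : ℤ) ≤ i := by exact_mod_cast hi
  have key : ∀ J : X.IdealSheafData, AlgebraicGeometry.IsReduced J.subscheme → ConnectedSpace J.subscheme →
      topologicalKrullDim J.subscheme = 1 →
      2 * gg k X J - 2 < dd k X (CohB1.tensorPow w i) J ∧ 2 * gg k X J ≤ dd k X (CohB1.tensorPow w i) J := by
    intro J hr hc h1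
    rw [dd_pow k w hw J h1.le i]
    have e := adjunction k hdim hw ht J h1
    have h2 := hss J hr hc h1
    have h3 : 2 * dd k X w J ≤ i * dd k X w J := mul_le_mul_of_nonneg_right hi' h2
    have h4 := gg_nonneg k J
    by_cases hJ : J = ⊥
    · subst hJ
      rw [gg_bot, kk_bot] at e
      rw [gg_bot]
      omega
    · have h5 := kk_pos k J hJ
      omega
  exact ⟨exists_subcurve_of_h1 k hdim _ hinv fun J hr hc h1 => (key J hr hc h1).1,
    isGloballyGenerated k hdim _ hinv fun J hr hc h1 => (key J hr hc h1).2⟩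

end Rows

end Sub

end K334.GorNum
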