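import Groth.Agent.Curves.K334.GorNum
import Groth.Agent.Curves.K334.AmpleDeg
import Groth.Agent.S7642
import Groth.Agent.Fdesc.LocGen

/-!
# Balanced invertible modules on Gorenstein curves: nef and ample

* `nef_iff` (row S19026), `ample_iff` (row S19027).
-/

set_option autoImplicit false
universe u
open CategoryTheory CategoryTheory.Limits AlgebraicGeometry TopologicalSpace Opposite

namespace K334.GorNum2

open Groth.Agent.CurvesC.TailNum Groth.Agent.CurvesC.TailGeom Groth.Agent.CurvesC.DegIso Groth.Agent.CurvesC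
open K334.GorNum

/-- Numerics: nef implies `w ≥ 0`. -/
theorem num_w {G d l w κ g : ℤ} (hG : 2 ≤ G) (hw : w = 2 * g - 2 + κ) (hk : 1 ≤ κ) (hg : 0 ≤ g) (hl : 0 ≤ l)
    (hb : |2 * (2 * G - 2) * l - 2 * d * w| ≤ (2 * G - 2) * κ) (hd : G - 1 < d) : 0 ≤ w := by
  by_contra hcon
  push Not at hcon
  have h1 := (abs_le.mp hb).2
  obtain rfl : g = 0 := by omega
  obtain rfl : κ = 1 := by omega
  obtain rfl : w = -1 := by omega
  nlinarith

theorem num_exc {G d l w κ g : ℤ} (hG : 2 ≤ G) (hw : w = 2 * g - 2 + κ) (hk : 1 ≤ κ) (hg : 0 ≤ g)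
    (hb : |2 * (2 * G - 2) * l - 2 * d * w| ≤ (2 * G - 2) * κ) (hw0 : w = 0) : l ≤ 1 := by
  have h1 := (abs_le.mp hb).2
  subst hw0
  have h2 : κ ≤ 2 := by omega
  have h3 : 2 * (2 * G - 2) * l ≤ (2 * G - 2) * 2 := by nlinarith
  by_contra hcon
  push Not at hcon
  nlinarith

theorem num_nef {G d l w κ g : ℤ} (hG : 2 ≤ G) (hw : w = 2 * g - 2 + κ) (hg : 0 ≤ g)
    (hb : |2 * (2 * G - 2) * l - 2 * d * w| ≤ (2 * G - 2) * κ) (hd : G - 1 < d) (hw0 : 1 ≤ w) : 0 ≤ l := by
  have h1 := num_aux (a := 1) hG hw0 hb (by linarith)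
  have h2 : 2 * g - 2 < 2 * l := by linarith
  linarith

theorem num_ample {G d l w κ g : ℤ} (hG : 2 ≤ G) (hw : w = 2 * g - 2 + κ) (hg : 0 ≤ g) (hk : 1 ≤ κ)
    (hb : |2 * (2 * G - 2) * l - 2 * d * w| ≤ (2 * G - 2) * κ) (hd : 3 * (G - 1) < d) (hw0 : 1 ≤ w) : 0 < l := by
  have h1 := num_aux (a := 3) hG hw0 hb hd
  rcases eq_or_lt_of_le hg with h | h
  · omega
  · omega

variable (k : Type u) [Field k]

attribute [local instance] subOver

section Comp

/-- An ample invertible module of degree `≤ 1` on a reduced connected proper curve: the curve is irreducible. -/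
theorem irreducible_of_deg_le_one (Y : Scheme.{u}) [Y.Over (Spec (CommRingCat.of k))]
    [IsProper (Y ↘ (Spec (CommRingCat.of k)))]
    [ConnectedSpace Y] (hdim : topologicalKrullDim Y = 1) {L : Y.Modules} (hL : CohB1.IsAmple L)
    (hdeg : Curv2.deg k Y L 1 ≤ 1) : IrreducibleSpace Y := by
  classical
  have hN := GorNum.isNoetherian_of_proper k Y
  have key := Groth.Agent.S1641.result k Y hdim.le 1 L
    (Groth.Agent.Ega2.QCohLocal.isFinLocFreeOfRank_one_iff.mpr hL.1)
  rw [key] at hdeg
  have hfin := NoetherianSpace.finite_irreducibleComponents (α := (Y : Type u))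
  have := hfin.to_subtype
  have := Fintype.ofFinite (irreducibleComponents (Y : Type u))
  rw [finsum_eq_sum_of_fintype] at hdeg
  have hpos := (Groth.Agent.S7642.result k Y hdim.le L hL.1).mp hL
  have hone : ∀ Z : irreducibleComponents (Y : Type u), (1 : ℤ) ≤ (if topologicalKrullDim (Z.1 : Set Y) = 1 then
      ((Module.length (Y.presheaf.stalk Z.2.1.genericPoint) (Y.presheaf.stalk Z.2.1.genericPoint)).toNat : ℤ) *
        Curv2.deg k (Y.irreducibleComponentIdeal Z.1 Z.2).radical.subscheme
          ((Scheme.Modules.pullback (Y.irreducibleComponentIdeal Z.1 Z.2).radical.subschemeι).obj L) 1 else 0) := by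
    intro Z
    have hZ := TailMain.pure_of_connected Y hdim Z.1 Z.2
    rw [if_pos hZ]
    have h4 := hpos Z.1 Z.2 hZ
    have h1 := Groth.Agent.VarietyB.DegComp.length_stalk_ne_top (Coh.structureModule Y)
      (Groth.Agent.CurvesC.UnitCoh.isCoh_unit Y) Z
    rw [← (Groth.Agent.CycB.PushStalk.unitStalk Y Z.2.1.genericPoint).length_eq] at h1
    have h2 : Module.length (Y.presheaf.stalk Z.2.1.genericPoint) (Y.presheaf.stalk Z.2.1.genericPoint) ≠ 0 := by
      rw [Ne, Module.length_eq_zero_iff]
      exact not_subsingleton _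
    have h3 : (Module.length (Y.presheaf.stalk Z.2.1.genericPoint) (Y.presheaf.stalk Z.2.1.genericPoint)).toNat ≠ 0 := by
      rw [Ne, ENat.toNat_eq_zero]
      push Not
      exact ⟨h2, h1⟩
    have h5 : (0 : ℤ) < ((Module.length (Y.presheaf.stalk Z.2.1.genericPoint)
      (Y.presheaf.stalk Z.2.1.genericPoint)).toNat : ℤ) := by exact_mod_cast Nat.pos_of_ne_zero h3
    exact Int.add_one_le_iff.mpr (mul_pos h5 h4)
  have hcard : (Fintype.card (irreducibleComponents (Y : Type u)) : ℤ) ≤ 1 := by
    refine le_trans ?_ hdeg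
    have h1 := Finset.card_nsmul_le_sum Finset.univ _ 1 fun Z (_ : Z ∈ Finset.univ) => hone Z
    simpa using h1
  have hsub : Subsingleton (irreducibleComponents (Y : Type u)) :=
    Fintype.card_le_one_iff_subsingleton.mp (by exact_mod_cast hcard)
  obtain ⟨y⟩ : Nonempty Y := inferInstance
  have h1 : irreducibleComponent y = Set.univ := by
    rw [Set.eq_univ_iff_forall]
    intro z
    have h2 : (⟨irreducibleComponent y, irreducibleComponent_mem_irreducibleComponents y⟩ :
        irreducibleComponents (Y : Type u)) = ⟨irreducibleComponent z, irreducibleComponent_mem_irreducibleComponents z⟩ :=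
      Subsingleton.elim _ _
    have h3 : irreducibleComponent y = irreducibleComponent z := congrArg Subtype.val h2
    rw [h3]
    exact mem_irreducibleComponent
  have h4 : IsIrreducible (Set.univ : Set Y) := by
    rw [← h1]
    exact isIrreducible_irreducibleComponent
  exact (irreducibleSpace_def _).mpr h4

end Comp

variable {X : Scheme.{u}} [X.Over (Spec (CommRingCat.of k))]

variable [IsAlgClosed k] [IsProper (X ↘ (Spec (CommRingCat.of k)))]
  [AlgebraicGeometry.IsReduced X] [ConnectedSpace X] (hdim : topologicalKrullDim X = 1) {w : X.Modules}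
  (hw : PicF.IsInvertible w) {t : Coh.HH X w 1 →ₗ[k] k} (ht : DualCount.IsPair k t)
  (hg : 2 ≤ (Curv2.genus k X : ℤ)) (L : X.Modules) (hL : PicF.IsInvertible L)

include hdim hw ht hg

theorem dd_w_nonneg
    (hbal : ∀ J : X.IdealSheafData, AlgebraicGeometry.IsReduced J.subscheme → ConnectedSpace J.subscheme →
      topologicalKrullDim J.subscheme = 1 →
      |2 * (2 * (Curv2.genus k X : ℤ) - 2) * dd k X L J - 2 * Curv2.deg k X L 1 * dd k X w J| ≤
        (2 * (Curv2.genus k X : ℤ) - 2) * kk k X J)
    (hd : (Curv2.genus k X : ℤ) - 1 < Curv2.deg k X L 1)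
    (hnef : ∀ J : X.IdealSheafData, AlgebraicGeometry.IsReduced J.subscheme → ConnectedSpace J.subscheme →
      topologicalKrullDim J.subscheme = 1 → 0 ≤ dd k X L J)
    (J : X.IdealSheafData) (hr : AlgebraicGeometry.IsReduced J.subscheme) (hc : ConnectedSpace J.subscheme)
    (h1 : topologicalKrullDim J.subscheme = 1) : 0 ≤ dd k X w J := by
  have e := adjunction k hdim hw ht J h1
  by_cases hJ : J = ⊥
  · subst hJ
    rw [gg_bot, kk_bot] at e
    omega
  · exact num_w hg e (kk_pos k J hJ) (gg_nonneg k J) (hnef J hr hc h1) (hbal J hr hc h1) hd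

theorem dd_exc_le_one
    (hbal : ∀ J : X.IdealSheafData, AlgebraicGeometry.IsReduced J.subscheme → ConnectedSpace J.subscheme →
      topologicalKrullDim J.subscheme = 1 →
      |2 * (2 * (Curv2.genus k X : ℤ) - 2) * dd k X L J - 2 * Curv2.deg k X L 1 * dd k X w J| ≤
        (2 * (Curv2.genus k X : ℤ) - 2) * kk k X J)
    (J : X.IdealSheafData) (hr : AlgebraicGeometry.IsReduced J.subscheme) (hc : ConnectedSpace J.subscheme)
    (h1 : topologicalKrullDim J.subscheme = 1) (h0 : dd k X w J = 0) : dd k X L J ≤ 1 := by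
  have e := adjunction k hdim hw ht J h1
  by_cases hJ : J = ⊥
  · subst hJ
    rw [gg_bot, kk_bot] at e
    omega
  · exact num_exc hg e (kk_pos k J hJ) (gg_nonneg k J) (hbal J hr hc h1) h0

theorem nef_iff
    (hbal : ∀ J : X.IdealSheafData, AlgebraicGeometry.IsReduced J.subscheme → ConnectedSpace J.subscheme →
      topologicalKrullDim J.subscheme = 1 →
      |2 * (2 * (Curv2.genus k X : ℤ) - 2) * dd k X L J - 2 * Curv2.deg k X L 1 * dd k X w J| ≤
        (2 * (Curv2.genus k X : ℤ) - 2) * kk k X J)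
    (hd : (Curv2.genus k X : ℤ) - 1 < Curv2.deg k X L 1) :
    (∀ J : X.IdealSheafData, AlgebraicGeometry.IsReduced J.subscheme → ConnectedSpace J.subscheme →
      topologicalKrullDim J.subscheme = 1 → 0 ≤ dd k X L J) ↔
    ((∀ J : X.IdealSheafData, AlgebraicGeometry.IsReduced J.subscheme → ConnectedSpace J.subscheme →
      topologicalKrullDim J.subscheme = 1 → 0 ≤ dd k X w J) ∧
    (∀ J : X.IdealSheafData, AlgebraicGeometry.IsReduced J.subscheme → ConnectedSpace J.subscheme →
      topologicalKrullDim J.subscheme = 1 → dd k X w J = 0 → (dd k X L J = 0 ∨ dd k X L J = 1))) := by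
  constructor
  · intro hnef
    refine ⟨dd_w_nonneg k hdim hw ht hg L hbal hd hnef, fun J hr hc h1 h0 => ?_⟩
    have h2 := dd_exc_le_one k hdim hw ht hg L hbal J hr hc h1 h0
    have h3 := hnef J hr hc h1
    omega
  · rintro ⟨hss, hexc⟩ J hr hc h1
    have e := adjunction k hdim hw ht J h1
    by_cases hJ : J = ⊥
    · subst hJ
      rw [dd_bot]
      omega
    · have h2 := hss J hr hc h1
      rcases eq_or_lt_of_le h2 with h3 | h3
      · rcases hexc J hr hc h1 h3.symm with h4 | h4 <;> omega
      · exact num_nef hg e (gg_nonneg k J) (hbal J hr hc h1) hd h3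

include hL in
theorem ample_iff
    (hbal : ∀ J : X.IdealSheafData, AlgebraicGeometry.IsReduced J.subscheme → ConnectedSpace J.subscheme →
      topologicalKrullDim J.subscheme = 1 →
      |2 * (2 * (Curv2.genus k X : ℤ) - 2) * dd k X L J - 2 * Curv2.deg k X L 1 * dd k X w J| ≤
        (2 * (Curv2.genus k X : ℤ) - 2) * kk k X J)
    (hd : 3 * ((Curv2.genus k X : ℤ) - 1) < Curv2.deg k X L 1) :
    CohB1.IsAmple L ↔
    ((∀ J : X.IdealSheafData, AlgebraicGeometry.IsReduced J.subscheme → ConnectedSpace J.subscheme →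
      topologicalKrullDim J.subscheme = 1 → 0 ≤ dd k X w J) ∧
    (∀ J : X.IdealSheafData, AlgebraicGeometry.IsReduced J.subscheme → ConnectedSpace J.subscheme →
      topologicalKrullDim J.subscheme = 1 → dd k X w J = 0 → IrreducibleSpace J.subscheme) ∧
    (∀ J : X.IdealSheafData, AlgebraicGeometry.IsReduced J.subscheme → ConnectedSpace J.subscheme →
      topologicalKrullDim J.subscheme = 1 → dd k X w J = 0 → dd k X L J = 1)) := by
  constructor
  · intro hamp
    have hpos : ∀ J : X.IdealSheafData, AlgebraicGeometry.IsReduced J.subscheme → ConnectedSpace J.subscheme →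
        topologicalKrullDim J.subscheme = 1 → 0 < dd k X L J :=
      fun J hr hc h1 => by haveI := hc; exact AmpleDeg.dd_pos k hamp J h1
    have hone : ∀ J : X.IdealSheafData, AlgebraicGeometry.IsReduced J.subscheme → ConnectedSpace J.subscheme →
        topologicalKrullDim J.subscheme = 1 → dd k X w J = 0 → dd k X L J = 1 := fun J hr hc h1 h0 => by
      have h2 := dd_exc_le_one k hdim hw ht hg L hbal J hr hc h1 h0
      have h3 := hpos J hr hc h1
      omega
    refine ⟨dd_w_nonneg k hdim hw ht hg L hbal (by linarith) fun J hr hc h1 => (hpos J hr hc h1).le,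
      fun J hr hc h1 h0 => ?_, hone⟩
    have hPJ : IsProper (J.subscheme ↘ Spec (CommRingCat.of k)) :=
      inferInstanceAs (IsProper (J.subschemeι ≫ (X ↘ (Spec (CommRingCat.of k)))))
    exact irreducible_of_deg_le_one k J.subscheme h1
      (Groth.Agent.Sga5.AmpleFib.isAmple_pullback J.subschemeι hamp) (hone J hr hc h1 h0).le
  · rintro ⟨hss, -, hexc⟩
    have hN := GorNum.isNoetherian_of_proper k X
    rw [Groth.Agent.S7642.result k X hdim.le L hL]
    intro C hC hdC
    set J := (X.irreducibleComponentIdeal C hC).radical with hJdef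
    have hint : IsIntegral J.subscheme := K420.Comp.isIntegral_compSub X ⟨C, hC⟩
    have h1 : topologicalKrullDim J.subscheme = 1 := (K420.Comp.dim_compSub X ⟨C, hC⟩).trans hdC
    have hr : AlgebraicGeometry.IsReduced J.subscheme := inferInstance
    have hc : ConnectedSpace J.subscheme := inferInstance
    change 0 < dd k X L J
    have e := adjunction k hdim hw ht J h1
    by_cases hJ : J = ⊥
    · rw [hJ, dd_bot]
      omega
    · have h2 := hss J hr hc h1
      rcases eq_or_lt_of_le h2 with h3 | h3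
      · rw [hexc J hr hc h1 h3.symm]; exact one_pos
      · exact num_ample hg e (gg_nonneg k J) (kk_pos k J hJ) (hbal J hr hc h1) hd h3

end K334.GorNum2
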