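import Groth.Agent.Smoothlim.Jacobian
import Groth.Agent.Lefpen.H705.JacHyp
import Mathlib.FieldTheory.IsAlgClosed.AlgebraicClosure
import Mathlib.FieldTheory.IsAlgClosed.Basic

/-!
# Jacobian criterion for a hypersurface, the converse

* `exists_pderiv_of_formallySmooth`: if `k[X]/(f)` is formally smooth over `k` and `f ≠ 0`, then `f` and its
  partial derivatives generate the unit ideal.
-/

set_option autoImplicit false
universe u v

namespace K334.HypSing

section General

open MvPolynomial

theorem exists_pderiv_of_formallySmooth {k : Type u} [CommRing k] [IsDomain k] {σ : Type v} [Fintype σ]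
    (f : MvPolynomial σ k) (hf : f ≠ 0)
    [Algebra.FormallySmooth k (MvPolynomial σ k ⧸ Ideal.span {f})] :
    ∃ g : σ → MvPolynomial σ k, f ∣ 1 + ∑ i, pderiv i f * g i := by
  classical
  let P := MvPolynomial σ k
  have hle : Ideal.span {f ^ 2} ≤ Ideal.span {f} := by
    rw [Ideal.span_singleton_le_span_singleton]
    exact dvd_pow_self _ two_ne_zero
  let g : (P ⧸ Ideal.span {f ^ 2}) →ₐ[k] (P ⧸ Ideal.span {f}) := Ideal.Quotient.factorₐ k hle
  have hg : Function.Surjective g := Ideal.Quotient.factor_surjective hle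
  have hgmk : ∀ p : P, g (Ideal.Quotient.mk _ p) = Ideal.Quotient.mk _ p := fun p => rfl
  have hnil : IsNilpotent (RingHom.ker g) := by
    refine ⟨2, ?_⟩
    rw [Submodule.zero_eq_bot, eq_bot_iff, pow_two (RingHom.ker g), Ideal.mul_le]
    intro a ha b hb
    obtain ⟨a, rfl⟩ := Ideal.Quotient.mk_surjective a
    obtain ⟨b, rfl⟩ := Ideal.Quotient.mk_surjective b
    rw [RingHom.mem_ker] at ha hb
    have ha' := Ideal.mem_span_singleton.mp (Ideal.Quotient.eq_zero_iff_mem.mp ((hgmk a).symm.trans ha))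
    have hb' := Ideal.mem_span_singleton.mp (Ideal.Quotient.eq_zero_iff_mem.mp ((hgmk b).symm.trans hb))
    rw [Ideal.mem_bot, ← map_mul, Ideal.Quotient.eq_zero_iff_mem, Ideal.mem_span_singleton, pow_two]
    exact mul_dvd_mul ha' hb'
  let s : (P ⧸ Ideal.span {f}) →ₐ[k] (P ⧸ Ideal.span {f ^ 2}) :=
    Algebra.FormallySmooth.liftOfSurjective (AlgHom.id k _) g hg hnil
  have hs : ∀ x, g (s x) = x := fun x =>
    Algebra.FormallySmooth.liftOfSurjective_apply (AlgHom.id k _) g hg hnil x
  have hy : ∀ i : σ, ∃ c : P, s (Ideal.Quotient.mk _ (X i)) = Ideal.Quotient.mk _ (X i + f * c) := by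
    intro i
    obtain ⟨y, hy⟩ := Ideal.Quotient.mk_surjective (s (Ideal.Quotient.mk _ (X i)))
    have h1 : (Ideal.Quotient.mk (Ideal.span {f}) y) = Ideal.Quotient.mk _ (X i) := by
      rw [← hgmk y, hy, hs]
    rw [Ideal.Quotient.eq, Ideal.mem_span_singleton] at h1
    obtain ⟨c, hc⟩ := h1
    exact ⟨c, by rw [← hy, ← hc]; congr 1; ring⟩
  choose c hc using hy
  refine ⟨c, ?_⟩
  let ψ₀ : P →ₐ[k] (P ⧸ Ideal.span {f ^ 2}) := Ideal.Quotient.mkₐ k _
  let ψ : P →ₐ[k] (P ⧸ Ideal.span {f ^ 2}) := s.comp (Ideal.Quotient.mkₐ k _)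
  have hψ : ∀ i, ψ (X i) - ψ₀ (X i) = Ideal.Quotient.mk _ (f * c i) := by
    intro i
    change s (Ideal.Quotient.mk _ (X i)) - Ideal.Quotient.mk _ (X i) = _
    rw [hc, ← map_sub]
    congr 1; ring
  have htay := Groth.Agent.Smoothlim.Jacobian.taylor ψ ψ₀ (by
    intro i j
    rw [hψ, hψ, ← map_mul, Ideal.Quotient.eq_zero_iff_mem, Ideal.mem_span_singleton]
    exact ⟨c i * c j, by ring⟩) f
  have h0 : ψ f = 0 := by
    change s (Ideal.Quotient.mk _ f) = 0
    rw [Ideal.Quotient.eq_zero_iff_mem.mpr (Ideal.mem_span_singleton_self f), map_zero]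
  rw [h0] at htay
  simp only [hψ] at htay
  have h1 : (Ideal.Quotient.mk (Ideal.span {f ^ 2})) (f * (1 + ∑ i, pderiv i f * c i)) = 0 := by
    have : f * (1 + ∑ i, pderiv i f * c i) = f + ∑ i, pderiv i f * (f * c i) := by
      rw [mul_add, mul_one, Finset.mul_sum]
      congr 1
      exact Finset.sum_congr rfl fun i _ => by ring
    rw [this, map_add, map_sum]
    have h2 : (Ideal.Quotient.mk (Ideal.span {f ^ 2})) f = ψ₀ f := rfl
    have h3 : ∑ i, (Ideal.Quotient.mk (Ideal.span {f ^ 2})) (pderiv i f * (f * c i)) =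
        ∑ i, ψ₀ (pderiv i f) * (Ideal.Quotient.mk (Ideal.span {f ^ 2})) (f * c i) :=
      Finset.sum_congr rfl fun i _ => by rw [map_mul]; rfl
    rw [h3, ← htay, h2]; ring
  rw [Ideal.Quotient.eq_zero_iff_mem, Ideal.mem_span_singleton, pow_two] at h1
  exact (mul_dvd_mul_iff_left hf).mp h1

/-- At a point with values in a nontrivial ring, some partial derivative does not vanish. -/
theorem exists_pderiv_ne_zero {k : Type u} [CommRing k] [IsDomain k] {σ : Type v} [Fintype σ]
    (f : MvPolynomial σ k) (hf : f ≠ 0)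
    [Algebra.FormallySmooth k (MvPolynomial σ k ⧸ Ideal.span {f})] {K : Type*} [CommRing K] [Nontrivial K]
    [Algebra k K] (φ : MvPolynomial σ k →ₐ[k] K) (h : φ f = 0) : ∃ i, φ (pderiv i f) ≠ 0 := by
  by_contra hcon
  push Not at hcon
  obtain ⟨g, d, hd⟩ := exists_pderiv_of_formallySmooth f hf
  have h1 := congrArg φ hd
  simp [h, hcon] at h1

end General

section Charts

variable {k : Type u} [Field k]

open Polynomial in
/-- The chart `A(t) + B(t) w`. -/
noncomputable def chart₁ (A B : k[X]) : MvPolynomial (Fin 2) k :=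
  Polynomial.aeval (MvPolynomial.X 0) A + Polynomial.aeval (MvPolynomial.X 0) B * MvPolynomial.X 1

open Polynomial in
/-- The chart `A(t) w + B(t)`. -/
noncomputable def chart₂ (A B : k[X]) : MvPolynomial (Fin 2) k :=
  Polynomial.aeval (MvPolynomial.X 0) A * MvPolynomial.X 1 + Polynomial.aeval (MvPolynomial.X 0) B

open Polynomial in
lemma chart₂_eq (A B : k[X]) : chart₂ A B = chart₁ B A := by
  rw [chart₂, chart₁, add_comm]

open Polynomial in
lemma chart₁_ne_zero {A B : k[X]} (h : A ≠ 0 ∨ B ≠ 0) : chart₁ A B ≠ 0 := by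
  intro h0
  have h1 : ∀ c : k, A + B * Polynomial.C c = 0 := by
    intro c
    have h2 := congrArg (MvPolynomial.aeval (R := k) (![(Polynomial.X : k[X]), Polynomial.C c])) h0
    rw [chart₁, map_add, map_mul, map_zero, ← Polynomial.aeval_algHom_apply,
      ← Polynomial.aeval_algHom_apply] at h2
    simpa using h2
  have hA : A = 0 := by simpa using h1 0
  have hB : B = 0 := by simpa [hA] using h1 1
  rcases h with h | h
  · exact h hA
  · exact h hB

open Polynomial in
lemma pderiv_zero_aeval (A : k[X]) :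
    MvPolynomial.pderiv (0 : Fin 2) (Polynomial.aeval (MvPolynomial.X 0 : MvPolynomial (Fin 2) k) A) =
      Polynomial.aeval (MvPolynomial.X 0) (derivative A) := by
  rw [Derivation.map_aeval]
  simp

open Polynomial in
lemma pderiv_one_aeval (A : k[X]) :
    MvPolynomial.pderiv (1 : Fin 2) (Polynomial.aeval (MvPolynomial.X 0 : MvPolynomial (Fin 2) k) A) = 0 := by
  rw [Derivation.map_aeval, MvPolynomial.pderiv_X_of_ne (by decide), smul_zero]

open Polynomial in
lemma pderiv_zero_chart₁ (A B : k[X]) :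
    MvPolynomial.pderiv (0 : Fin 2) (chart₁ A B) = chart₁ (derivative A) (derivative B) := by
  rw [chart₁, map_add, Derivation.leibniz, pderiv_zero_aeval, pderiv_zero_aeval,
    MvPolynomial.pderiv_X_of_ne (by decide), smul_zero, zero_add, smul_eq_mul, chart₁]
  ring

open Polynomial in
lemma pderiv_one_chart₁ (A B : k[X]) :
    MvPolynomial.pderiv (1 : Fin 2) (chart₁ A B) = Polynomial.aeval (MvPolynomial.X 0) B := by
  rw [chart₁, map_add, Derivation.leibniz, pderiv_one_aeval, pderiv_one_aeval, MvPolynomial.pderiv_X_self]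
  simp

open Polynomial in
lemma aeval_chart₁ {K : Type*} [CommRing K] [Algebra k K] (A B : k[X]) (a w : K) :
    MvPolynomial.aeval ![a, w] (chart₁ A B) = Polynomial.aeval a A + Polynomial.aeval a B * w := by
  rw [chart₁, map_add, map_mul, ← Polynomial.aeval_algHom_apply, ← Polynomial.aeval_algHom_apply]
  simp

open Polynomial in
lemma smooth_chart₁ {A B : k[X]} (h : IsCoprime A B) :
    Algebra.Smooth k (MvPolynomial (Fin 2) k ⧸ Ideal.span {chart₁ A B}) := by
  apply Groth.Agent.Lefpen.H705.JacHyp.smooth_quotient_of_pderiv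
  rw [Ideal.eq_top_iff_one]
  obtain ⟨a, b, hab⟩ := h
  have h1 := congrArg (Polynomial.aeval (MvPolynomial.X 0 : MvPolynomial (Fin 2) k)) hab
  rw [map_add, map_mul, map_mul, map_one] at h1
  have hf : chart₁ A B ∈ Ideal.span ({chart₁ A B} ∪ Set.range fun i => MvPolynomial.pderiv i (chart₁ A B)) :=
    Ideal.subset_span (Or.inl rfl)
  have hB : Polynomial.aeval (MvPolynomial.X 0) B ∈
      Ideal.span ({chart₁ A B} ∪ Set.range fun i => MvPolynomial.pderiv i (chart₁ A B)) :=
    Ideal.subset_span (Or.inr ⟨1, pderiv_one_chart₁ A B⟩)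
  have hA : Polynomial.aeval (MvPolynomial.X 0) A ∈
      Ideal.span ({chart₁ A B} ∪ Set.range fun i => MvPolynomial.pderiv i (chart₁ A B)) := by
    have : Polynomial.aeval (MvPolynomial.X 0) A = chart₁ A B - MvPolynomial.X 1 * Polynomial.aeval (MvPolynomial.X 0) B := by
      rw [chart₁]; ring
    rw [this]
    exact sub_mem hf (Ideal.mul_mem_left _ _ hB)
  rw [← h1]
  exact add_mem (Ideal.mul_mem_left _ _ hA) (Ideal.mul_mem_left _ _ hB)

open Polynomial in
theorem smooth_charts_iff {A B : k[X]} (h : A ≠ 0 ∨ B ≠ 0) :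
    (Algebra.Smooth k (MvPolynomial (Fin 2) k ⧸ Ideal.span {chart₁ A B}) ∧
      Algebra.Smooth k (MvPolynomial (Fin 2) k ⧸ Ideal.span {chart₂ A B})) ↔ IsCoprime A B := by
  classical
  constructor
  · rintro ⟨h1, h2⟩
    by_contra hcop
    have hG : gcd A B ≠ 0 := by
      rw [Ne, gcd_eq_zero_iff]
      rintro ⟨hA, hB⟩
      rcases h with h | h
      · exact h hA
      · exact h hB
    have hdeg : (gcd A B).degree ≠ 0 := by
      intro hd
      apply hcop
      rw [← gcd_isUnit_iff]
      exact Polynomial.isUnit_iff_degree_eq_zero.mpr hd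
    obtain ⟨x, hx⟩ := IsAlgClosed.exists_aeval_eq_zero (AlgebraicClosure k) (gcd A B) hdeg
    have hA : Polynomial.aeval x A = 0 := by
      obtain ⟨c, hc⟩ := gcd_dvd_left A B
      rw [hc, map_mul, hx, zero_mul]
    have hB : Polynomial.aeval x B = 0 := by
      obtain ⟨c, hc⟩ := gcd_dvd_right A B
      rw [hc, map_mul, hx, zero_mul]
    have key1 : ∀ w : AlgebraicClosure k, Polynomial.aeval x (derivative A) + Polynomial.aeval x (derivative B) * w ≠ 0 := by
      intro w
      obtain ⟨i, hi⟩ := exists_pderiv_ne_zero (chart₁ A B) (chart₁_ne_zero h)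
        (MvPolynomial.aeval (R := k) ![x, w]) (by rw [aeval_chart₁, hA, hB]; ring)
      fin_cases i
      · change MvPolynomial.aeval (R := k) ![x, w] (MvPolynomial.pderiv (0 : Fin 2) (chart₁ A B)) ≠ 0 at hi
        rwa [pderiv_zero_chart₁, aeval_chart₁] at hi
      · exfalso
        apply hi
        change MvPolynomial.aeval (R := k) ![x, w] (MvPolynomial.pderiv (1 : Fin 2) (chart₁ A B)) = 0
        rw [pderiv_one_chart₁, ← Polynomial.aeval_algHom_apply]
        simpa using hB
    have key2 : Polynomial.aeval x (derivative B) ≠ 0 := by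
      rw [chart₂_eq] at h2
      obtain ⟨i, hi⟩ := exists_pderiv_ne_zero (chart₁ B A) (chart₁_ne_zero h.symm)
        (MvPolynomial.aeval (R := k) ![x, (0 : AlgebraicClosure k)]) (by rw [aeval_chart₁, hA, hB]; ring)
      fin_cases i
      · change MvPolynomial.aeval (R := k) ![x, (0 : AlgebraicClosure k)]
          (MvPolynomial.pderiv (0 : Fin 2) (chart₁ B A)) ≠ 0 at hi
        rwa [pderiv_zero_chart₁, aeval_chart₁, mul_zero, add_zero] at hi
      · exfalso
        apply hi
        change MvPolynomial.aeval (R := k) ![x, (0 : AlgebraicClosure k)]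
          (MvPolynomial.pderiv (1 : Fin 2) (chart₁ B A)) = 0
        rw [pderiv_one_chart₁, ← Polynomial.aeval_algHom_apply]
        simpa using hA
    apply key1 (-(Polynomial.aeval x (derivative A)) / Polynomial.aeval x (derivative B))
    field_simp
    ring
  · intro hcop
    refine ⟨smooth_chart₁ hcop, ?_⟩
    rw [chart₂_eq]
    exact smooth_chart₁ hcop.symm

end Charts

end K334.HypSing
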