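import Groth.Agent.Brauer.K439.MulDesc
import Groth.Agent.AbVar.K527.FibreVan
import Groth.Agent.Ega3B.AcyclicBC
import Groth.Agent.Ega3B.AcycNbhd
import Groth.Agent.Variety.K432.NefBC
import Groth.Agent.Fdesc.CurveMap
import Groth.Agent.Ega3B.LiftSection

/-!
# Surjectivity of the multiplication of sections from the fibres

`X` proper and flat over a Noetherian ring, `M`, `N` invertible, no higher cohomology of `M`, `N`, `M ⊗ N` on the fibres:
if the multiplication maps of all fibres are surjective then so is the global one.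
-/

set_option autoImplicit false
universe u
open CategoryTheory CategoryTheory.Limits AlgebraicGeometry Opposite TopologicalSpace
open scoped TensorProduct

namespace K334.MulNak

section Alg

theorem nontrivial_tensor {A : Type u} [CommRing A] {N : Type u} [AddCommGroup N] [Module A N] [Module.Finite A N]
    (m : Ideal A) [m.IsMaximal] (hm : Module.annihilator A N ≤ m)
    (K : Type u) [CommRing K] [Nontrivial K] [Algebra A K] (hK : ∀ a ∈ m, algebraMap A K a = 0) :
    Nontrivial (K ⊗[A] N) := by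
  let _ : Field (A ⧸ m) := Ideal.Quotient.field m
  let _ : Algebra (A ⧸ m) K := (Ideal.Quotient.lift m (algebraMap A K) hK).toAlgebra
  have _ : IsScalarTower A (A ⧸ m) K := IsScalarTower.of_algebraMap_eq fun a => rfl
  have h1 : Nontrivial ((A ⧸ m) ⊗[A] N) := by
    by_contra h
    rw [not_nontrivial_iff_subsingleton] at h
    have h2 : Subsingleton (N ⧸ (m • (⊤ : Submodule A N))) := by
      exact (TensorProduct.quotTensorEquivQuotSMul N m).symm.toEquiv.subsingleton
    have h3 : (⊤ : Submodule A N) ≤ m • ⊤ := by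
      rw [Submodule.Quotient.subsingleton_iff] at h2
      rw [h2]
    obtain ⟨r, hr, hr'⟩ := Submodule.exists_sub_one_mem_and_smul_eq_zero_of_fg_of_le_smul m ⊤
      Module.Finite.fg_top h3
    have h4 : r ∈ m := hm (Module.mem_annihilator.mpr fun n => hr' n trivial)
    apply (Ideal.IsMaximal.ne_top (I := m) inferInstance)
    rw [Ideal.eq_top_iff_one]
    have := m.sub_mem h4 hr
    simpa using this
  have h2 : Nontrivial (K ⊗[A ⧸ m] ((A ⧸ m) ⊗[A] N)) := inferInstance
  exact (TensorProduct.AlgebraTensorModule.cancelBaseChange A (A ⧸ m) (A ⧸ m) K N).symm.toEquiv.nontrivial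

theorem eq_top_of_bc {A : Type u} [CommRing A] {Q : Type u} [AddCommGroup Q] [Module A Q]
    [Module.Finite A Q] (P : Submodule A Q)
    (h : ∀ m : Ideal A, m.IsMaximal → ∃ (K : Type u) (_ : CommRing K) (_ : Nontrivial K) (_ : Algebra A K),
      (∀ a ∈ m, algebraMap A K a = 0) ∧
        ∀ x : K ⊗[A] Q, x ∈ Submodule.span K (Set.range fun p : P => (1 : K) ⊗ₜ[A] (p : Q))) : P = ⊤ := by
  rw [← Submodule.Quotient.subsingleton_iff]
  by_contra hN
  rw [not_subsingleton_iff_nontrivial] at hN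
  have h1 : Module.annihilator A (Q ⧸ P) ≠ ⊤ := by
    intro h2
    rw [Module.annihilator_eq_top_iff] at h2
    exact not_subsingleton _ h2
  obtain ⟨m, hm, hm'⟩ := Ideal.exists_le_maximal _ h1
  obtain ⟨K, _, _, _, hK, hx⟩ := h m hm
  have h2 := nontrivial_tensor m hm' K hK
  obtain ⟨y, hy⟩ := exists_ne (0 : K ⊗[A] (Q ⧸ P))
  obtain ⟨x, rfl⟩ := LinearMap.lTensor_surjective K P.mkQ_surjective y
  apply hy
  have h3 : Submodule.span K (Set.range fun p : P => (1 : K) ⊗ₜ[A] (p : Q)) ≤
      LinearMap.ker (P.mkQ.baseChange K) := by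
    rw [Submodule.span_le]
    rintro _ ⟨p, rfl⟩
    simp [(Submodule.Quotient.mk_eq_zero P).mpr p.2]
  exact h3 (hx x)

end Alg

open Groth.Agent K800.MulMap Groth.Agent.VarietyB.PullSec Groth.Agent.VarietyB.FlatH0 Groth.Agent.VarietyB.BCAlg
open Groth.Agent.Ega2.Tens (tmul tmul_res lift lift_tmul add_tmul tmul_add smul_tmul tmul_smul)
open Groth.Agent.Fdesc.LocGen (pullSec)

variable {X : Scheme.{u}} {R : Type u} [CommRing R] [IsNoetherianRing R]
  (f : X ⟶ Spec (CommRingCat.of R)) [IsProper f] [Flat f]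

include f in
theorem vanish {M : X.Modules} (hM : PicF.IsInvertible M)
    (h : ∀ s p, Subsingleton (CohIII.fiberH f M s (p + 1))) (p : ℕ) : Subsingleton (Coh.HH X M (p + 1)) := by
  have h1 := K527.FibreVan.subsingleton_HHon f M (Fdesc.CurveMap.isCoh_of_isInvertible hM)
    (K432.NefBC.isFlatOver_of_isInvertible f hM) (p + 1) (V := ⊤) (isAffineOpen_top _) (fun y _ => h y p)
  rw [← Flat2D.LocalGlobalH.HU_iff_HHon] at h1
  exact (Flat2D.LocalGlobalH.HU_top_iff M (p + 1)).1 h1

theorem mulSurj_of_fibre {M N : X.Modules} (hM : PicF.IsInvertible M) (hN : PicF.IsInvertible N)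
    (h1 : ∀ s p, Subsingleton (CohIII.fiberH f M s (p + 1)))
    (h2 : ∀ s p, Subsingleton (CohIII.fiberH f N s (p + 1)))
    (h3 : ∀ s p, Subsingleton (CohIII.fiberH f (CohB1.tensorMod M N) s (p + 1)))
    (h : ∀ s, MulSurj (CohIII.fiberMod f M s) (CohIII.fiberMod f N s)) : MulSurj M N := by
  have hT : PicF.IsInvertible (CohB1.tensorMod M N) := Fdesc.LocGen.isInvertible_tensorMod hM hN
  let S := Spec (CommRingCat.of R)
  let A := Γ(S, ⊤)
  let i1 (F : X.Modules) : Module A Γ(F, ⊤) := Ega3B.CechBC.modV f F ⊤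
  have hfin : Module.Finite A Γ(CohB1.tensorMod M N, ⊤) :=
    Ega3B.AcycNbhd.finite_sections f _ (Fdesc.CurveMap.isCoh_of_isInvertible hT)
  let P : Submodule A Γ(CohB1.tensorMod M N, ⊤) :=
    { carrier := {t | t ∈ prods M N}
      add_mem' := fun ha hb => AddSubgroup.add_mem (prods M N) ha hb
      zero_mem' := AddSubgroup.zero_mem (prods M N)
      smul_mem' := fun c t ht => K439.MulDesc.smul_mem_prods _ ht }
  suffices hP : P = ⊤ from fun t => (hP ▸ trivial : t ∈ P)
  refine eq_top_of_bc P fun m hm => ?_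
  -- the point
  let s : S := (isAffineOpen_top S).fromSpec ⟨m, hm.isPrime⟩
  let T := Spec (S.residueField s)
  let τ : T ⟶ S := S.fromSpecResidueField s
  let g := f.fiberι s
  let q := f.fiberToSpecResidueField s
  have H : IsPullback g q f τ := IsPullback.of_hasPullback _ _
  let iA : Algebra A Γ(T, ⊤) := algOver τ (US := ⊤) (UT := ⊤) le_top
  have hnt : Nontrivial Γ(T, ⊤) := inferInstance
  refine ⟨Γ(T, ⊤), inferInstance, hnt, iA, fun a ha => ?_, fun x => ?_⟩
  · change (τ.appLE ⊤ ⊤ le_top).hom a = 0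
    have h4 : τ.appLE ⊤ ⊤ le_top = τ.appTop := (Scheme.Hom.app_eq_appLE _).symm
    rw [h4]
    change τ.appTop a = 0
    rw [← basicOpen_eq_bot_iff, ← Scheme.preimage_basicOpen_top]
    ext t
    refine ⟨fun ht => ?_, fun ht => ht.elim⟩
    have h5 : τ t = s := Scheme.fromSpecResidueField_apply s t
    have h6 : s ∈ S.basicOpen a := h5 ▸ ht
    have h7 : (⟨m, hm.isPrime⟩ : Spec Γ(S, ⊤)) ∈ (isAffineOpen_top S).fromSpec ⁻¹ᵁ S.basicOpen a := h6
    rw [(isAffineOpen_top S).fromSpec_preimage_basicOpen] at h7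
    exact h7 ha
  · let i2 (F : X.Modules) : Module Γ(T, ⊤) Γ((Scheme.Modules.pullback g).obj F, ⊤) :=
      Ega3B.CechBC.modV q _ ⊤
    have hbc {F : X.Modules} (hF : PicF.IsInvertible F) (hv : ∀ s p, Subsingleton (CohIII.fiberH f F s (p + 1))) :
        Function.Bijective (bc (secS H.w F (US := ⊤) (UT := ⊤) le_top (UX := ⊤) le_top (UY := ⊤) le_top le_top)) :=
      (Ega3B.AcyclicBC.acyclicBC H F (Fdesc.CurveMap.isCoh_of_isInvertible hF).1
        (K432.NefBC.isFlatOver_of_isInvertible f hF) (vanish f hF hv)).2.1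
    let sec' (F : X.Modules) : Γ(F, ⊤) → Γ((Scheme.Modules.pullback g).obj F, ⊤) := sec g F (V := ⊤) le_top
    let W : Submodule Γ(T, ⊤) Γ((Scheme.Modules.pullback g).obj (CohB1.tensorMod M N), ⊤) :=
      Submodule.span _ (sec' _ '' (P : Set Γ(CohB1.tensorMod M N, ⊤)))
    let φ := Ega3B.PullTensor.pullTensorIso g hM hN
    have hsec (F : X.Modules) (x : Γ(F, ⊤)) : sec' F x = pullSec g x :=
      (Ega3B.LiftSection.sec_eq_pullSec g F le_top x).trans (Fdesc.LocGen.res_refl _ _)
    have hφ (m : Γ(M, ⊤)) (n : Γ(N, ⊤)) : φ.inv.app ⊤ (tmul (sec' M m) (sec' N n)) = sec' _ (tmul m n) := by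
      have h4 := Ega3B.PullTensor.delta_pullSec g M N m n
      have h5 : φ.hom.app ⊤ (sec' (CohB1.tensorMod M N) (tmul m n)) = tmul (sec' M m) (sec' N n) := by
        rw [hsec, hsec, hsec]
        exact h4
      rw [← h5]
      exact congr(($(φ.hom_inv_id)).app ⊤ (sec' (CohB1.tensorMod M N) (tmul m n)))
    have hkey (m' : Γ((Scheme.Modules.pullback g).obj M, ⊤)) (n' : Γ((Scheme.Modules.pullback g).obj N, ⊤)) :
        φ.inv.app ⊤ (tmul m' n') ∈ W := by
      obtain ⟨m, rfl⟩ := (hbc hM h1).2 m'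
      obtain ⟨n, rfl⟩ := (hbc hN h2).2 n'
      induction m using TensorProduct.induction_on with
      | zero =>
        rw [map_zero, ← zero_smul Γ(f.fiber s, ⊤) (0 : Γ((Scheme.Modules.pullback g).obj M, ⊤)), smul_tmul,
          zero_smul, map_zero]
        exact W.zero_mem
      | add m m' h1 h2 =>
        rw [map_add, add_tmul, map_add]
        exact W.add_mem h1 h2
      | tmul c x =>
        induction n using TensorProduct.induction_on with
        | zero =>
          rw [map_zero, ← zero_smul Γ(f.fiber s, ⊤) (0 : Γ((Scheme.Modules.pullback g).obj N, ⊤)), tmul_smul,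
            zero_smul, map_zero]
          exact W.zero_mem
        | add n n' h1 h2 =>
          rw [map_add, tmul_add, map_add]
          exact W.add_mem h1 h2
        | tmul d y =>
          rw [bc_tmul, bc_tmul]
          change φ.inv.app ⊤ (tmul ((q.appLE ⊤ ⊤ le_top).hom c • sec' M x) ((q.appLE ⊤ ⊤ le_top).hom d • sec' N y)) ∈ W
          rw [smul_tmul, tmul_smul, Scheme.Modules.Hom.app_smul, Scheme.Modules.Hom.app_smul, hφ]
          exact W.smul_mem c (W.smul_mem d (Submodule.subset_span ⟨tmul x y, tmul_mem_prods x y, rfl⟩))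
    have hall (y : Γ((Scheme.Modules.pullback g).obj (CohB1.tensorMod M N), ⊤)) : y ∈ W := by
      have h4 : φ.inv.app ⊤ (φ.hom.app ⊤ y) = y := congr(($(φ.hom_inv_id)).app ⊤ y)
      rw [← h4]
      exact map_mem (K := Γ((Scheme.Modules.pullback g).obj (CohB1.tensorMod M N), ⊤))
        (φ.inv.app ⊤).hom W.toAddSubgroup (fun m n => hkey m n) (h s _)
    -- back to the tensor product
    let b := bc (secS H.w (CohB1.tensorMod M N) (US := ⊤) (UT := ⊤) le_top (UX := ⊤) le_top (UY := ⊤) le_top le_top)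
    have hb : Function.Bijective b := hbc hT h3
    have h4 : W ≤ (Submodule.span Γ(T, ⊤)
        (Set.range fun p : P => (1 : Γ(T, ⊤)) ⊗ₜ[A] (p : Γ(CohB1.tensorMod M N, ⊤)))).map b := by
      rw [Submodule.span_le]
      rintro _ ⟨p, hp, rfl⟩
      refine ⟨1 ⊗ₜ p, Submodule.subset_span ⟨⟨p, hp⟩, rfl⟩, ?_⟩
      rw [bc_tmul, one_smul]
      rfl
    obtain ⟨x', hx', hxx⟩ := h4 (hall (b x))
    rwa [← hb.1 hxx]

end K334.MulNak
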