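import Groth.Agent.AdjLin.K800.Crit
import Groth.Agent.VBCurve.K703.Duality
import Groth.Agent.S1530
import Groth.Agent.S1533
import Groth.Agent.S1522
import Groth.Agent.CurvesB.CurveRR

/-!
# Normal generation for invertible modules of degree at least `2 g + 1` on a smooth curve

Over an algebraically closed field: `H⁰(L^n) ⊗ H⁰(L) → H⁰(L^(n+1))` is surjective for `n ≥ 1` and `deg L ≥ 2 g + 1`
(Castelnuovo, Mattuck, Mumford), from the Koszul criterion of `K800.Crit` (Green's argument).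
-/

set_option autoImplicit false
universe u
open CategoryTheory CategoryTheory.Limits AlgebraicGeometry Opposite TopologicalSpace

namespace K334.NormGen

attribute [local instance] Groth.Agent.CurvesC.LinMod.linearModules

open Groth.Agent K800.Cls K800.Crit K800.MulMap Groth.Agent.Fdesc.LocGen

variable (k : Type u) [Field k] [IsAlgClosed k] {X : Scheme.{u}} [X.Over (Spec (CommRingCat.of k))]
  [IsIntegral X] [IsProper (X ↘ Spec (CommRingCat.of k))] [Smooth (X ↘ Spec (CommRingCat.of k))]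

theorem mulSurj_pow (hdim : topologicalKrullDim X = 1) {L : X.Modules} (hL : PicF.IsInvertible L)
    (hdeg : 2 * (Curv2.genus k X : ℤ) + 1 ≤ Curv2.deg k X L 1) (n : ℕ) (hn : 1 ≤ n) :
    MulSurj (CohB1.tensorPow L n) L := by
  have hN : IsNoetherian X := Groth.Agent.CurvesB.CurveRR.isNoetherian_of_proper k X
  obtain ⟨D⟩ := K703.Duality.nonempty_dualizing k X hdim
  have hk0 : Module.finrank k (Coh.HH X (Coh.structureModule X) 0) = 1 :=
    Groth.Agent.VarietyA.CurveFin.finrank_h0_structure k X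
  -- the classes
  let b : P X := cl L hL
  let κ : P X := cl D.w D.inv
  have hb : Nonempty (rep b ≅ L) := rep_iso (hL := hL) rfl
  have hκ : Nonempty (rep κ ≅ D.w) := rep_iso (hL := D.inv) rfl
  have hinv (m : ℕ) : PicF.IsInvertible (CohB1.tensorPow L m) := isInvertible_tensorPow hL m
  have hpow (m : ℕ) : Nonempty (rep (m • b) ≅ CohB1.tensorPow L m) :=
    rep_iso (hL := hinv m) (cl_pow hL m _).symm
  have hdual : K800.KosCrit.IsDual k 1 (rep κ) := by
    obtain ⟨e⟩ := hκ
    have h1 : K800.KosCrit.IsDual k 1 D.w := ⟨D.t', D.isPair⟩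
    obtain ⟨t, ht⟩ := h1
    have hinv' : ∀ x, Groth.Agent.CohqB.HSeqMod.hmap e.hom 1 (Groth.Agent.CohqB.HSeqMod.hmap e.inv 1 x) = x := by
      intro x
      rw [← Groth.Agent.CohqB.HSeqMod.hmap_comp_apply, e.inv_hom_id, Groth.Agent.CohqB.HSeqMod.hmap_id_apply]
    refine ⟨t ∘ₗ Groth.Agent.FormalA.HHLin.HHmap k e.hom 1, fun F hF ψ => ?_⟩
    obtain ⟨φ, hφ, hu⟩ := ht F hF ψ
    refine ⟨φ ≫ e.inv, fun x => ?_, fun φ' hφ' => ?_⟩
    · change ψ x = t (Groth.Agent.CohqB.HSeqMod.hmap e.hom 1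
        (Groth.Agent.CohqB.HSeqMod.hmap (φ ≫ e.inv) 1 x))
      rw [Groth.Agent.CohqB.HSeqMod.hmap_comp_apply, hinv']
      exact hφ x
    · rw [← hu (φ' ≫ e.hom) fun x => ?_]
      · simp
      · change ψ x = t (Groth.Agent.CohqB.HSeqMod.hmap (φ' ≫ e.hom) 1 x)
        rw [Groth.Agent.CohqB.HSeqMod.hmap_comp_apply]
        exact hφ' x
  have hvan (m : ℕ) (hm : 1 ≤ m) : Subsingleton (Coh.HH X (CohB1.tensorPow L m) 1) := by
    refine Groth.Agent.S1522.result k X hdim _ (hinv m) ?_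
    rw [Groth.Agent.S1530.deg_tensorPow k hdim hL m]
    have h1 : (1 : ℤ) ≤ m := by exact_mod_cast hm
    nlinarith [Int.natCast_nonneg (Curv2.genus k X)]
  have hL1 : Subsingleton (Coh.HH X L 1) :=
    Groth.Agent.S1522.result k X hdim L hL (by linarith)
  have hh0 : (h0 k b : ℤ) = Curv2.deg k X L 1 + 1 - Curv2.genus k X := by
    rw [h0_eq k hb, Groth.Agent.CurvesB.CurveRR.deg_eq k X hdim.le, hk0,
      Module.finrank_zero_of_subsingleton (M := Coh.HH X L 1)]
    push_cast
    ring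
  rw [← ms_iff (hpow n) hb]
  refine ms_of_dual k 1 le_rfl
    (fun F => Groth.Agent.CurvesB.CurveRR.subsingleton_HH_of_two_le hdim.le F 2 le_rfl) hdual
    ((gg_iff hb).2 (Groth.Agent.S1533.result k X hdim hk0 L hL (by linarith)))
    (fun i h1 h2 => absurd h2 (by omega)) ?_
  rcases Nat.eq_or_lt_of_le hn with rfl | hn'
  · right
    have e1 : κ - 1 • b + 1 • b = κ := by abel
    rw [e1, h0_eq k hκ, D.h0_w]
    omega
  · left
    obtain ⟨m, rfl⟩ : ∃ m, n = m + 1 := ⟨n - 1, by omega⟩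
    have e1 : κ - (m + 1) • b + 1 • b = κ - m • b := by rw [succ_nsmul, one_nsmul]; abel
    have h1 := finrank_hom k (A := CohB1.tensorPow L m) (W := D.w) (hinv m) D.inv
    rw [cl_pow hL m] at h1
    rw [e1, ← h1.2]
    have : Subsingleton (CohB1.tensorPow L m ⟶ D.w) := ⟨fun φ φ' => by
      have hq : Coh.IsQCoh (CohB1.tensorPow L m) := Groth.Agent.Ega2.QCohLocal.isQCoh_of_isInvertible (hinv m)
      rw [D.eq_zero hq (hvan m (by omega)) φ, D.eq_zero hq (hvan m (by omega)) φ']⟩
    exact Module.finrank_zero_of_subsingleton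

end K334.NormGen
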