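import Groth.Agent.Curves.K334.NormGen
import Groth.Agent.Brauer.K439.MulDesc
import Groth.Agent.AbSch.K449.CurveVan
import Groth.Agent.Sga3B.DimFib
import Groth.Agent.S7636
import Groth.Agent.S0223
import Groth.Agent.Ega3B.PullTensor

/-!
# Normal generation on smooth curves over an arbitrary field
-/

set_option autoImplicit false
universe u
open CategoryTheory CategoryTheory.Limits AlgebraicGeometry Opposite TopologicalSpace

namespace K334.NormGenField

open Groth.Agent K800.MulMap Groth.Agent.Fdesc.LocGen

theorem mulSurj_pow (k : Type u) [Field k] (X : Scheme.{u}) [X.Over (Spec (CommRingCat.of k))]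
    [IsProper (X ↘ Spec (CommRingCat.of k))] [Smooth (X ↘ Spec (CommRingCat.of k))]
    [GeometricallyConnected (X ↘ Spec (CommRingCat.of k))]
    (hdim : topologicalKrullDim X = 1) {L : X.Modules} (hL : PicF.IsInvertible L)
    (hdeg : 2 * (Curv2.genus k X : ℤ) + 1 ≤ Curv2.deg k X L 1) (n : ℕ) (hn : 1 ≤ n) :
    MulSurj (CohB1.tensorPow L n) L := by
  let K := AlgebraicClosure k
  let X' : Scheme.{u} := Curv2.bc k X K
  let π : X' ⟶ X := Curv2.bcFst k X K
  let i1 : X'.Over (Spec (CommRingCat.of K)) := ⟨Curv2.bcSnd k X K⟩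
  have sq : IsPullback π (X' ↘ Spec (CommRingCat.of K)) (X ↘ Spec (CommRingCat.of k))
    (Spec.map (CommRingCat.ofHom (algebraMap k K))) := IsPullback.of_hasPullback _ _
  have i2 : IsProper (X' ↘ Spec (CommRingCat.of K)) := MorphismProperty.of_isPullback sq inferInstance
  have i3 : Smooth (X' ↘ Spec (CommRingCat.of K)) := MorphismProperty.of_isPullback sq inferInstance
  have i4 : GeometricallyConnected (X' ↘ Spec (CommRingCat.of K)) :=
    MorphismProperty.of_isPullback sq inferInstance
  have i5 : ConnectedSpace X' :=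
    GeometricallyConnected.connectedSpace_of_subsingleton (X' ↘ (Spec (CommRingCat.of K)))
  have i6 : IsIntegral X' := K449.CurveVan.isIntegral (X' ↘ (Spec (CommRingCat.of K)))
  have hgr : GeometricallyReduced (X ↘ (Spec (CommRingCat.of k))) := K449.CurveVan.geometricallyReduced _
  have h0 : Module.finrank k (Coh.HH X (Coh.structureModule X) 0) = 1 := S1536.result k X
  have hdim' : topologicalKrullDim X' = 1 := by
    rw [← hdim]
    exact Groth.Agent.Sga3B.DimFib.topologicalKrullDim_baseChange_eq (Field.toIsField k) (Field.toIsField K)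
      (X ↘ Spec (CommRingCat.of k)) _ π _ sq
  have hg : Curv2.genus K X' = Curv2.genus k X :=
    (S0223.result k X hdim h0 K X' π sq).2
  have hd : Curv2.deg K X' ((Scheme.Modules.pullback π).obj L) 1 = Curv2.deg k X L 1 :=
    S7636.result k X hdim.le K 1 L (Groth.Agent.Ega2.QCohLocal.isFinLocFreeOfRank_one_iff.mpr hL)
  have hL' : PicF.IsInvertible ((Scheme.Modules.pullback π).obj L) := isInvertible_pullback π hL
  have h1 : MulSurj (CohB1.tensorPow ((Scheme.Modules.pullback π).obj L) n) ((Scheme.Modules.pullback π).obj L) :=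
    NormGen.mulSurj_pow K hdim' hL' (by rw [hg, hd]; exact hdeg) n hn
  obtain ⟨e⟩ := Groth.Agent.Ega3B.PullTensor.nonempty_pullPowIso π hL n
  have hc : CompactSpace X := QuasiCompact.compactSpace_of_compactSpace (X ↘ Spec (CommRingCat.of k))
  have hinv : PicF.IsInvertible (CohB1.tensorPow L n) := isInvertible_tensorPow hL n
  exact K439.MulDesc.mulSurj_of_pullback π sq hinv hL (Groth.Agent.Ega2.QCohLocal.isQCoh_of_isInvertible hinv)
    (Groth.Agent.Ega2.QCohLocal.isQCoh_of_isInvertible hL)
    (Groth.Agent.Ega2.QCohLocal.isQCoh_of_isInvertible (isInvertible_tensorMod hinv hL))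
    (h1.congr e.symm (Iso.refl _))

end K334.NormGenField
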