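import Groth.Agent.Curves.K334.NormGenField
import Groth.Agent.Curves.K334.MulNak
import Groth.Agent.S12128
import Groth.Agent.S4381

/-!
# Ampleness and normal generation on relative curves

`f : X ⟶ Spec R` proper and smooth with geometrically connected fibres of dimension one, `L` invertible of degree at least
`2 g + 1` on every fibre: `L` is ample and normally generated.
-/

set_option autoImplicit false
universe u
open CategoryTheory CategoryTheory.Limits AlgebraicGeometry Opposite TopologicalSpace

namespace K334.NormGenRel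

open Groth.Agent K800.MulMap Groth.Agent.Fdesc.LocGen

section Field

variable (k : Type u) [Field k] (X : Scheme.{u}) [X.Over (Spec (CommRingCat.of k))]
  [IsProper (X ↘ (Spec (CommRingCat.of k)))] [Smooth (X ↘ (Spec (CommRingCat.of k)))]
  [GeometricallyConnected (X ↘ (Spec (CommRingCat.of k)))]

include k in
theorem isIntegral : IsIntegral X := by
  have hc : ConnectedSpace X :=
    GeometricallyConnected.connectedSpace_of_subsingleton (X ↘ (Spec (CommRingCat.of k)))
  exact K449.CurveVan.isIntegral (X ↘ (Spec (CommRingCat.of k)))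

theorem finrank_h0 : Module.finrank k (Coh.HH X (Coh.structureModule X) 0) = 1 := by
  have hgr : GeometricallyReduced (X ↘ (Spec (CommRingCat.of k))) := K449.CurveVan.geometricallyReduced _
  exact S1536.result k X

/-- All the facts on one fibre. -/
theorem facts (hdim : topologicalKrullDim X = 1) {L : X.Modules} (hL : PicF.IsInvertible L)
    (hdeg : 2 * (Curv2.genus k X : ℤ) + 1 ≤ Curv2.deg k X L 1) :
    CohB1.IsAmple L ∧ (∀ n, 1 ≤ n → ∀ p, Subsingleton (Coh.HH X (CohB1.tensorPow L n) (p + 1))) ∧
      ∀ n, 1 ≤ n → MulSurj (CohB1.tensorPow L n) L := by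
  have hi : IsIntegral X := isIntegral k X
  have hN : IsNoetherian X := Groth.Agent.CurvesB.CurveRR.isNoetherian_of_proper k X
  refine ⟨(S1530.result k X hdim L hL).2 (by have := Int.natCast_nonneg (Curv2.genus k X); linarith),
    fun n hn p => ?_, fun n hn => NormGenField.mulSurj_pow k X hdim hL hdeg n hn⟩
  rcases p with _ | p
  · have h1 := K449.CurveVan.subsingleton_H1 k X hdim (CohB1.tensorPow L n) (isInvertible_tensorPow hL n)
    refine h1 ?_
    have h2 := Groth.Agent.CurvesB.CurveRR.deg_eq k X hdim.le (CohB1.tensorPow L n)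
    rw [S1530.deg_tensorPow k hdim hL n, finrank_h0 k X] at h2
    have h3 : (1 : ℤ) ≤ n := by exact_mod_cast hn
    have h4 : (0 : ℤ) ≤ Curv2.genus k X := Int.natCast_nonneg _
    have h5 : (Curv2.genus k X : ℤ) = Module.finrank k (Coh.HH X (Coh.structureModule X) 1) := rfl
    rw [← h5]
    push_cast at h2
    nlinarith
  · exact Groth.Agent.CurvesB.CurveRR.subsingleton_HH_of_two_le hdim.le _ _ (by omega)

end Field

variable {R : Type u} [CommRing R] [IsNoetherianRing R] {X : Scheme.{u}}
  (f : X ⟶ Spec (CommRingCat.of R)) [IsProper f] [Smooth f] [GeometricallyConnected f]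

theorem main (hdim : ∀ s : Spec (CommRingCat.of R), topologicalKrullDim ↥(f.fiber s) = 1)
    (g : ℕ) (hgen : ∀ s : Spec (CommRingCat.of R), letI : (f.fiber s).Over (Spec ((Spec (CommRingCat.of R)).residueField s)) := ⟨f.fiberToSpecResidueField s⟩
      Curv2.genus ((Spec (CommRingCat.of R)).residueField s) (f.fiber s) = g)
    (L : X.Modules) (hL : PicF.IsInvertible L)
    (hdeg : ∀ s : Spec (CommRingCat.of R), letI : (f.fiber s).Over (Spec ((Spec (CommRingCat.of R)).residueField s)) := ⟨f.fiberToSpecResidueField s⟩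
      2 * (g : ℤ) + 1 ≤ Curv2.deg ((Spec (CommRingCat.of R)).residueField s) (f.fiber s) (CohIII.fiberMod f L s) 1) :
    CohB1.IsAmple L ∧ ∀ n : ℕ, 1 ≤ n → MulSurj (CohB1.tensorPow L n) L := by
  have key (s : Spec (CommRingCat.of R)) : CohB1.IsAmple (CohIII.fiberMod f L s) ∧
      (∀ n, 1 ≤ n → ∀ p, Subsingleton (Coh.HH (f.fiber s) (CohB1.tensorPow (CohIII.fiberMod f L s) n) (p + 1))) ∧
      ∀ n, 1 ≤ n → MulSurj (CohB1.tensorPow (CohIII.fiberMod f L s) n) (CohIII.fiberMod f L s) := by
    let K := (Spec (CommRingCat.of R)).residueField s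
    let i1 : (f.fiber s).Over (Spec (CommRingCat.of K)) := ⟨f.fiberToSpecResidueField s⟩
    have sq : IsPullback (f.fiberι s) (f.fiberToSpecResidueField s) f ((Spec (CommRingCat.of R)).fromSpecResidueField s) :=
      IsPullback.of_hasPullback _ _
    have i2 : IsProper ((f.fiber s) ↘ (Spec (CommRingCat.of K))) := MorphismProperty.of_isPullback (P := @IsProper) sq inferInstance
    have i3 : Smooth ((f.fiber s) ↘ (Spec (CommRingCat.of K))) := MorphismProperty.of_isPullback (P := @Smooth) sq inferInstance
    have i4 : GeometricallyConnected ((f.fiber s) ↘ (Spec (CommRingCat.of K))) :=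
      MorphismProperty.of_isPullback (P := @GeometricallyConnected) sq inferInstance
    have h1 := hgen s
    have h2 := hdeg s
    exact facts K (f.fiber s) (hdim s) (isInvertible_pullback _ hL) (by rw [h1]; exact h2)
  refine ⟨(S4381.result f L).1 ((S12128.result f L hL).2 fun s => (key s).1), fun n hn => ?_⟩
  have hv (m : ℕ) (hm : 1 ≤ m) (s p) : Subsingleton (CohIII.fiberH f (CohB1.tensorPow L m) s (p + 1)) := by
    obtain ⟨e⟩ := Groth.Agent.Ega3B.PullTensor.nonempty_pullPowIso (f.fiberι s) hL m
    exact Ega3B.AcycNbhd.subsingleton_HH_of_iso e.symm (p + 1) ((key s).2.1 m hm p)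
  refine MulNak.mulSurj_of_fibre f (isInvertible_tensorPow hL n) hL (hv n hn) ?_ (hv (n + 1) (by omega)) fun s => ?_
  · intro s p
    exact Ega3B.AcycNbhd.subsingleton_HH_of_iso (Ega2.TensPow.powOne (CohIII.fiberMod f L s)) (p + 1) ((key s).2.1 1 le_rfl p)
  · obtain ⟨e⟩ := Groth.Agent.Ega3B.PullTensor.nonempty_pullPowIso (f.fiberι s) hL n
    exact ((key s).2.2 n hn).congr e.symm (Iso.refl _)

end K334.NormGenRel
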