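import Mathlib.Algebra.Homology.ShortComplex.ModuleCat
import Mathlib.Algebra.Homology.ShortComplex.HomologicalComplex
import Mathlib.Algebra.Module.Projective
import Mathlib.Algebra.Category.ModuleCat.Projective

/-!
# Projectivity of the top homology of a bounded complex of projective modules
-/

set_option autoImplicit false
universe u

open CategoryTheory CategoryTheory.Limits

namespace K334.ProjKer

variable {R : Type u} [CommRing R]

theorem ker_of_surjective {M N : Type u} [AddCommGroup M] [Module R M] [AddCommGroup N] [Module R N]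
    (g : M →ₗ[R] N) (hg : Function.Surjective g) [Module.Projective R M] [Module.Projective R N] :
    Module.Projective R (LinearMap.ker g) := by
  obtain ⟨s, hs⟩ := Module.projective_lifting_property g LinearMap.id hg
  have hs' : ∀ n, g (s n) = n := fun n => DFunLike.congr_fun hs n
  refine Module.Projective.of_split (LinearMap.ker g).subtype
    (LinearMap.codRestrict (LinearMap.ker g) (LinearMap.id - s.comp g) (fun m => ?_)) ?_
  · simp [hs']
  · ext m
    simp [LinearMap.mem_ker.1 m.2]

theorem ker_of_quotient {M N : Type u} [AddCommGroup M] [Module R M] [AddCommGroup N] [Module R N]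
    (f : M →ₗ[R] N) [Module.Projective R M] [Module.Projective R N]
    (h : Module.Projective R (N ⧸ LinearMap.range f)) :
    Module.Projective R (LinearMap.ker f) := by
  have h1 : Module.Projective R (LinearMap.ker (LinearMap.range f).mkQ) :=
    ker_of_surjective _ (Submodule.mkQ_surjective _)
  rw [Submodule.ker_mkQ] at h1
  have h2 := ker_of_surjective f.rangeRestrict f.surjective_rangeRestrict
  rwa [LinearMap.ker_rangeRestrict] at h2

/-- Homology of a chain complex at `j` is the quotient of the kernel by the range. -/
theorem exists_homology_equiv (P : ChainComplex (ModuleCat.{u} R) ℤ) (i j k : ℤ) (hij : j + 1 = i)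
    (hjk : k + 1 = j) :
    Nonempty (P.homology j ≃ₗ[R] (LinearMap.ker (P.d j k).hom ⧸
      LinearMap.range (P.sc' i j k).moduleCatToCycles)) := by
  have e1 : P.sc j ≅ P.sc' i j k := P.isoSc' i j k
    ((ComplexShape.down ℤ).prev_eq' (by simpa using hij)) ((ComplexShape.down ℤ).next_eq' (by simpa using hjk))
  exact ⟨((ShortComplex.homologyMapIso e1).trans (P.sc' i j k).moduleCatHomologyIso).toLinearEquiv⟩

theorem ker_step (P : ChainComplex (ModuleCat.{u} R) ℤ) (i j k : ℤ) (hij : j + 1 = i)
    (hjk : k + 1 = j) [Module.Projective R (P.X i)]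
    (h1 : Module.Projective R (LinearMap.ker (P.d j k).hom))
    (h2 : Module.Projective R (P.homology j)) :
    Module.Projective R (LinearMap.ker (P.d i j).hom) := by
  obtain ⟨e⟩ := exists_homology_equiv P i j k hij hjk
  have h3 : Module.Projective R (LinearMap.ker (P.d j k).hom ⧸
      LinearMap.range (P.sc' i j k).moduleCatToCycles) := Module.Projective.of_equiv e
  have : Module.Projective R (P.sc' i j k).X₁ := inferInstanceAs (Module.Projective R (P.X i))
  have : Module.Projective R (LinearMap.ker (P.sc' i j k).g.hom) := h1
  have h4 := ker_of_quotient (P.sc' i j k).moduleCatToCycles h3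
  have h5 : LinearMap.ker (P.sc' i j k).moduleCatToCycles = LinearMap.ker (P.d i j).hom := by
    ext x
    simp only [LinearMap.mem_ker]
    exact Subtype.ext_iff
  rwa [h5] at h4

/-- A bounded complex of projective modules in degrees `≤ 0` whose homology in negative degrees is
projective has a projective `H_0`. -/
theorem homology_zero (P : ChainComplex (ModuleCat.{u} R) ℤ)
    (hP : ∀ i, Module.Projective R (P.X i)) (b : ℤ) (hb : ∀ i, (i < b ∨ 0 < i) → IsZero (P.X i))
    (hH : ∀ i < 0, Module.Projective R (P.homology i)) :
    Module.Projective R (P.homology 0) := by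
  have key : ∀ n : ℕ, ∀ i : ℤ, i = b - 1 + n → i ≤ 0 →
      Module.Projective R (LinearMap.ker (P.d i (i - 1)).hom) := by
    intro n
    induction n with
    | zero =>
      intro i hi _
      have h1 : Subsingleton (P.X i) := ModuleCat.subsingleton_of_isZero (hb i (Or.inl (by omega)))
      infer_instance
    | succ n ih =>
      intro i hi hi0
      have h1 := ih (i - 1) (by push_cast at hi; omega) (by omega)
      exact ker_step P i (i - 1) (i - 1 - 1) (by omega) (by omega) h1 (hH _ (by omega))
  have h0 : Module.Projective R (LinearMap.ker (P.d 0 (0 - 1)).hom) := by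
    by_cases hb1 : b ≤ 0
    · exact key (1 - b).toNat 0 (by omega) le_rfl
    · have h1 : Subsingleton (P.X 0) := ModuleCat.subsingleton_of_isZero (hb 0 (Or.inl (by omega)))
      have h2 : Subsingleton (LinearMap.ker (P.d 0 (0 - 1)).hom) :=
        ⟨fun a b => Subtype.ext (Subsingleton.elim (α := P.X 0) _ _)⟩
      exact Module.Projective.of_free
  obtain ⟨e⟩ := exists_homology_equiv P 1 0 (0 - 1) (by omega) (by omega)
  have h2 : LinearMap.range (P.sc' 1 0 (0 - 1)).moduleCatToCycles = ⊥ := by
    have h3 : Subsingleton (P.X 1) := ModuleCat.subsingleton_of_isZero (hb 1 (Or.inr (by omega)))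
    have h4 : Subsingleton (P.sc' 1 0 (0 - 1)).X₁ := h3
    rw [eq_bot_iff]
    rintro _ ⟨x, rfl⟩
    rw [Subsingleton.elim x 0, map_zero]
    exact zero_mem _
  let e2 : ↥(LinearMap.ker (P.d 0 (0 - 1)).hom) ≃ₗ[R] P.homology 0 :=
    (e.trans (Submodule.quotEquivOfEqBot _ h2)).symm
  exact @Module.Projective.of_equiv _ _ _ _ _ _ _ _ _ _ _ _ _ _ e2 h0

end K334.ProjKer
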